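import Cfsg.Agent.ConwayType.Code
import Cfsg.Agent.SuzukiType.Code

/-!
Coded computations on the rotation of an anisotropic line in the hyperbolic space of dimension eight and on its fixed
space, an elliptic space of dimension six.
-/

set_option autoImplicit false
set_option maxRecDepth 100000
set_option maxHeartbeats 2000000

namespace Cfsg.Lib.ConwayType.ThreeSuz.Code

open Cfsg.Lib.ConwayType.Code
open Cfsg.Lib.Classical.OrthH1 (lN)

theorem lN_xor (n : ℕ) (M : List ℕ) (x y : ℕ) : lN n M (x ^^^ y) = lN n M x ^^^ lN n M y := by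
  simp only [lN]
  induction List.range n with
  | nil => simp
  | cons k l ih =>
    rw [List.map_cons, List.map_cons, List.map_cons, List.foldr_cons, List.foldr_cons, List.foldr_cons, ih]
    cases hx : x.testBit k <;> cases hy : y.testBit k <;>
      simp [Nat.testBit_xor, hx, hy, Nat.xor_assoc, Nat.xor_left_comm]

/-- A reflection. -/
def rf (u x : ℕ) : ℕ := if pB u x then x ^^^ u else x

/-- The rotation of the line spanned by two nonsingular vectors. -/
def rot (a b x : ℕ) : ℕ := rf a (rf b x)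

/-- The standard rotation. -/
abbrev r0 (x : ℕ) : ℕ := rot 34 100 x

/-- The embedding of the elliptic space as the fixed space. -/
def io (x : ℕ) : ℕ := lN 6 [1, 8, 16, 128, 98, 68] x

/-- The coordinates in the fixed space. -/
def ka (x : ℕ) : ℕ := lN 8 [1, 32, 48, 2, 4, 32, 16, 8] x

/-- The part in the line. -/
def la (x : ℕ) : ℕ := x ^^^ io (ka x)

theorem io_xor (x y : ℕ) : io (x ^^^ y) = io x ^^^ io y := lN_xor _ _ x y

theorem ka_xor (x y : ℕ) : ka (x ^^^ y) = ka x ^^^ ka y := lN_xor _ _ x y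

theorem la_xor (x y : ℕ) : la (x ^^^ y) = la x ^^^ la y := by
  rw [la, la, la, ka_xor, io_xor]
  simp only [Nat.xor_assoc, Nat.xor_left_comm, Nat.xor_comm]

theorem io_ok : ∀ x < 64, io x < 256 ∧ ka (io x) = x ∧ la (io x) = 0 ∧ r0 (io x) = io x ∧
    qB (io x) = Cfsg.Lib.SuzukiType.Code.qB x := by
  decide +kernel

theorem ka_ok : ∀ x < 256, ka x < 64 ∧ r0 x < 256 ∧ (r0 x = x → io (ka x) = x) ∧
    (la x = 0 ∨ la x = 34 ∨ la x = 100 ∨ la x = 70) ∧
    qB x = (Cfsg.Lib.SuzukiType.Code.qB (ka x) ^^ qB (la x)) ∧ r0 (r0 (r0 x)) = x ∧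
    ka (r0 x) = ka x ∧ la (r0 x) = r0 (la x) := by
  decide +kernel

theorem nondeg_ok : ∀ d < 256, d = 0 ∨ ∃ x ∈ [1, 2, 4, 8, 16, 32, 64, 128], pB d x = true := by decide +kernel

theorem perp_sing : ((List.range 256).all fun a => !qB a || (List.range 256).all fun b => !qB b || !pB a b ||
    (List.range 256).any fun x => !qB x && x != 0 && !pB x a && !pB x b) = true := by
  decide +kernel

theorem fix_ok : ∀ i j : Bool, ∃ w ∈ W, rho w 34 = 34 ^^^ (bif i then 1 else 0) ∧
    rho w 100 = 100 ^^^ (bif j then 1 else 0) := by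
  decide +kernel

theorem line_ok : ((List.range 256).all fun x => !([1, 8, 16, 128, 98, 68].all fun v => !pB x v) || x == 0 || x == 34 ||
    x == 100 || x == 70) = true ∧ r0 34 = 100 ∧ r0 100 = 70 ∧ r0 70 = 34 := by
  decide +kernel

/-- A second rotation, inside the fixed space, and an element inverting it. -/
theorem second_ok : ∀ x < 256, rot 136 106 (r0 x) = r0 (rot 136 106 x) ∧
    rot 136 17 (r0 x) = r0 (rot 136 17 x) ∧
    rot 136 17 (rot 136 106 x) = rot 106 136 (rot 136 17 x) ∧
    rot 136 106 (rot 106 136 x) = x ∧ rot 136 106 (rot 136 106 (rot 136 106 x)) = x ∧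
    (la x = x → rot 136 106 x = x) ∧
    rot 136 106 x ^^^ x ∈ [0, 136, 106, 136 ^^^ 106] := by
  decide +kernel

theorem second_six : ∀ x < 64, ka (rot 136 106 (io x)) = Cfsg.Lib.SuzukiType.Code.rf 10 (Cfsg.Lib.SuzukiType.Code.rf 18 x) := by
  decide +kernel

end Cfsg.Lib.ConwayType.ThreeSuz.Code
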