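import Cfsg.Agent.ConwayType.ThreeSuz.Quot
import Cfsg.Agent.SuzukiType.ThreeU43.Main
import Cfsg.Agent.SuzukiType.Unique.Iso

/-!
The centralizer of the element of order three is quasisimple with quotient the Suzuki group.
-/

set_option autoImplicit false
set_option maxRecDepth 100000
set_option maxHeartbeats 1000000
set_option linter.unusedSectionVars false
set_option linter.style.haveILetI false

namespace Cfsg.Lib.ConwayType.ThreeSuz

open Subgroup Cfsg.Lib.ConwayType.Code Cfsg.Lib.ConwayType.ThreeSuz.Code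
open Cfsg.Lib.SuzukiType.ThreeU43 (exists_conj_mem)
open scoped commutatorElement

universe u

/-- The second rotation. -/
noncomputable def g2r : O8 := (exists_rot (a := 136) (b := 106) (by norm_num) (by norm_num) (by decide) (by decide)).choose

theorem g2r_mem : g2r ∈ Om :=
  (exists_rot (a := 136) (b := 106) (by norm_num) (by norm_num) (by decide) (by decide)).choose_spec.1

theorem cd_g2r {x : ℕ} (hx : x < 256) : cd g2r x = rot 136 106 x :=
  (exists_rot (a := 136) (b := 106) (by norm_num) (by norm_num) (by decide) (by decide)).choose_spec.2 x hx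

theorem g2r_comm : Commute g2r g0 := cd_ext fun x hx => by
  rw [cd_mul, cd_mul, cd_g0 hx, cd_g2r (rot_lt (by norm_num) (by norm_num) hx), cd_g2r hx,
    cd_g0 (rot_lt (by norm_num) (by norm_num) hx)]
  exact (second_ok x hx).1

theorem g2r_cube : g2r * g2r * g2r = 1 := cd_ext fun x hx => by
  have l1 : rot 136 106 x < 256 := rot_lt (by norm_num) (by norm_num) hx
  rw [cd_mul, cd_mul, cd_g2r hx, cd_g2r l1, cd_g2r (rot_lt (by norm_num) (by norm_num) l1),
    (second_ok x hx).2.2.2.2.1, cd_one hx]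

theorem g2r_inv {x : ℕ} (hx : x < 256) : cd g2r⁻¹ x = rot 106 136 x := by
  have l1 : rot 106 136 x < 256 := rot_lt (by norm_num) (by norm_num) hx
  conv_lhs => rw [← (second_ok x hx).2.2.2.1, ← cd_g2r l1, cd_inv _ l1]

theorem res_g2r : res g2r = Cfsg.Lib.SuzukiType.ThreeU43.g0 := Cfsg.Lib.SuzukiType.cd_ext fun k hk => by
  rw [cd_res g2r_comm hk, cd_g2r (io_ok k hk).1, Cfsg.Lib.SuzukiType.ThreeU43.cd_g0 hk]
  exact second_six k hk

theorem g2r_conj : ∃ h ∈ Om, h * g0 * h⁻¹ = g2r := by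
  refine exists_conj g2r_cube (fun e => Cfsg.Lib.SuzukiType.ThreeU43.g0_ne (by rw [← res_g2r, e, res_one]))
    [0, 136, 106, 136 ^^^ 106].toFinset (List.toFinset_card_le _) fun x hx => ?_
  rw [cd_g2r hx, List.mem_toFinset]
  exact (second_ok x hx).2.2.2.2.2.2

theorem exists_inverter2 : ∃ h ∈ Om, Commute h g0 ∧ h * g2r * h⁻¹ = g2r⁻¹ := by
  obtain ⟨h, hh, he⟩ := exists_rot (a := 136) (b := 17) (by norm_num) (by norm_num) (by decide) (by decide)
  refine ⟨h, hh, cd_ext fun x hx => ?_, mul_inv_eq_iff_eq_mul.mpr (cd_ext fun x hx => ?_)⟩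
  · have l : rot 136 17 x < 256 := rot_lt (by norm_num) (by norm_num) hx
    rw [cd_mul, cd_mul, cd_g0 hx, he x hx, he _ (rot_lt (by norm_num) (by norm_num) hx), cd_g0 l]
    exact (second_ok x hx).2.1
  · have l : rot 136 17 x < 256 := rot_lt (by norm_num) (by norm_num) hx
    rw [cd_mul, cd_mul, cd_g2r hx, he x hx, he _ (rot_lt (by norm_num) (by norm_num) hx), g2r_inv l]
    exact (second_ok x hx).2.2.1

variable {G : Type u} [Group G] [Finite G] {z : G}

namespace Three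

variable (T : Three z)

theorem iso_b : Cfsg.Spor.IsoSuz T.Hb := by
  obtain ⟨c, -, -⟩ := T.exists_ctx_b
  exact c.iso_suz

theorem simple_b : IsSimpleGroup T.Hb := by
  obtain ⟨e⟩ := T.iso_b
  haveI := Cfsg.Lib.SuzPres.simple_suz
  exact e.isSimpleGroup

theorem nonabelian_b : ¬ ∀ a b : T.Hb, a * b = b * a := fun h => by
  haveI := T.simple_b
  obtain ⟨e⟩ := T.iso_b
  haveI : IsMulCommutative T.Hb := ⟨⟨h⟩⟩
  have hp := (Group.is_simple_iff_prime_card (α := T.Hb)).mp inferInstance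
  rw [Nat.card_congr e.toEquiv, Cfsg.Lib.SuzPres.card_suz] at hp
  norm_num at hp

theorem center_b : center T.Hb = ⊥ := by
  haveI := T.simple_b
  refine (IsSimpleGroup.eq_bot_or_eq_top_of_normal _ inferInstance).resolve_right fun h => T.nonabelian_b fun a b => ?_
  exact (mem_center_iff.mp (h ▸ mem_top a : a ∈ center T.Hb) b).symm

theorem commutator_b : commutator T.Hb = ⊤ := by
  haveI := T.simple_b
  refine (IsSimpleGroup.eq_bot_or_eq_top_of_normal _ inferInstance).resolve_left fun h => T.nonabelian_b fun a b => ?_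
  exact commutatorElement_eq_one_iff_mul_comm.mp
    (Subgroup.mem_bot.mp (h ▸ Subgroup.commutator_mem_commutator (mem_top a) (mem_top b)))

/-- An element of order three carrying the second rotation. -/
theorem exists_second : ∃ y2, Commute y2 z ∧ Commute y2 T.y ∧ orderOf y2 = 3 ∧ T.toCtx.m y2 = g2r := by
  obtain ⟨x, hxz, hxm, hxe⟩ := T.lift_to g2r_mem T.y3 T.yz
    (by rw [T.my, g2r_comm.eq, mul_inv_cancel_right])
  have hxy : Commute x T.y := mul_inv_eq_iff_eq_mul.mp hxe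
  have g3 : g2r ^ 3 = 1 := by rw [pow_three, ← mul_assoc, g2r_cube]
  have hq : x ^ 3 ∈ T.Q0 := T.mem_Q0.mpr ⟨(T.toCtx.m_one_iff (hxz.pow_left 3)).mp (by
    rw [T.m_pow hxz, hxm, g3]), hxy.pow_left 3⟩
  have h12 : (x ^ 4) ^ 3 = 1 := by
    rw [← pow_mul, show 4 * 3 = 3 * 4 by norm_num, pow_mul]
    exact T.Q0_four hq
  have hm : T.toCtx.m (x ^ 4) = g2r := by rw [T.m_pow hxz, hxm, pow_succ, g3, one_mul]
  haveI : Fact (Nat.Prime 3) := ⟨Nat.prime_three⟩
  refine ⟨x ^ 4, hxz.pow_left 4, hxy.pow_left 4, orderOf_eq_prime h12 fun e => ?_, hm⟩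
  rw [e, T.toCtx.m_one] at hm
  exact Cfsg.Lib.SuzukiType.ThreeU43.g0_ne (by rw [← res_g2r, ← hm, res_one])

theorem perfect_M : commutator ↥T.M = ⊤ := by
  have hyM : T.y ∈ T.M := T.mem_M.mpr (Commute.refl _)
  have hmap : (commutator ↥T.M).map T.pr = ⊤ := by
    rw [_root_.commutator_def, Subgroup.map_commutator, Subgroup.map_top_of_surjective T.pr T.pr_surj]
    exact T.commutator_b
  by_cases hyD : (⟨T.y, hyM⟩ : ↥T.M) ∈ commutator ↥T.M
  · refine eq_top_iff.mpr fun x _ => ?_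
    obtain ⟨d, hd, hde⟩ := (hmap ▸ mem_top (T.pr x) : T.pr x ∈ (commutator ↥T.M).map T.pr)
    obtain ⟨i, -, hi⟩ := T.pr_eq.mp hde
    rw [show x = d * ⟨T.y, hyM⟩ ^ i from Subtype.ext (by push_cast; exact hi)]
    exact mul_mem hd (pow_mem hyD i)
  exfalso
  have hker : ∀ d ∈ commutator ↥T.M, T.pr d = 1 → d = 1 := by
    intro d hd h1
    obtain ⟨i, hi, e⟩ := T.pr_eq.mp (h1.trans (map_one T.pr).symm).symm
    push_cast at e
    rw [one_mul] at e
    interval_cases i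
    · exact Subtype.ext (by rw [e]; exact pow_zero _)
    · exact absurd (by rw [show (⟨T.y, hyM⟩ : ↥T.M) = d from Subtype.ext (by rw [e, pow_one])]; exact hd) hyD
    · exact absurd (by
        rw [show (⟨T.y, hyM⟩ : ↥T.M) = d * d from Subtype.ext (by
          push_cast; rw [e, ← pow_add, show 2 + 2 = 3 + 1 by norm_num, pow_succ, ← T.y3, pow_orderOf_eq_one, one_mul])]
        exact mul_mem hd hd) hyD
  obtain ⟨y2, h2z, h2y, o2, m2⟩ := T.exists_second
  have cube2 := cube_of_order o2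
  have inv2 : y2⁻¹ = y2 * y2 := inv_eq_of_mul_eq_one_right (by rw [← mul_assoc, cube2])
  let Y2 : ↥T.M := ⟨y2, T.mem_M.mpr h2y⟩
  have hY2 : Y2 ∈ commutator ↥T.M := by
    obtain ⟨h, hh, hc, hinv⟩ := exists_inverter2
    obtain ⟨x, hxz, hxm, hxe⟩ := T.lift_to hh T.y3 T.yz (by rw [T.my, hc.eq, mul_inv_cancel_right])
    have hxy : Commute x T.y := mul_inv_eq_iff_eq_mul.mp hxe
    have haz : Commute (x * y2 * x⁻¹) z := (hxz.mul_left h2z).mul_left hxz.inv_left
    have hay : Commute (x * y2 * x⁻¹) T.y := (hxy.mul_left h2y).mul_left hxy.inv_left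
    have ham : T.toCtx.m (x * y2 * x⁻¹) = g2r⁻¹ := by
      rw [T.toCtx.m_mul (hxz.mul_left h2z) hxz.inv_left, T.toCtx.m_mul hxz h2z, T.toCtx.m_inv hxz, hxm, m2, hinv]
    have hmem : y2⁻¹ * (x * y2 * x⁻¹)⁻¹ ∈ T.Q0 := by
      refine T.mem_Q0.mpr ⟨?_, h2y.inv_left.mul_left hay.inv_left⟩
      rw [← T.toCtx.m_one_iff (h2z.inv_left.mul_left haz.inv_left), T.toCtx.m_mul h2z.inv_left haz.inv_left,
        T.toCtx.m_inv h2z, T.toCtx.m_inv haz, ham, m2, mul_inv_cancel]
    obtain ⟨n, hn, hne⟩ := exists_conj_mem (N := T.Q0) (a := x * y2 * x⁻¹) (T.X.isP.to_le inf_le_left)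
      (((MulAut.conj x).orderOf_eq y2).trans o2) (by rw [orderOf_inv, o2])
      (mem_normalizer_iff.mpr fun q => ⟨T.norm_Q0 haz hay, fun hq => by
        have := T.norm_Q0 haz.inv_left hay.inv_left hq
        rwa [show (x * y2 * x⁻¹)⁻¹ * (x * y2 * x⁻¹ * q * (x * y2 * x⁻¹)⁻¹) * (x * y2 * x⁻¹)⁻¹⁻¹ = q by group] at this⟩)
      hmem
    have hdM : n * x ∈ T.M := mul_mem (T.Q0_M hn) (T.mem_M.mpr hxy)
    have e : ⁅(⟨n * x, hdM⟩ : ↥T.M), Y2⁆ = Y2 := Subtype.ext (by
      show n * x * y2 * (n * x)⁻¹ * y2⁻¹ = y2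
      rw [show n * x * y2 * (n * x)⁻¹ = n * (x * y2 * x⁻¹) * n⁻¹ by group, hne]
      calc y2⁻¹ * y2⁻¹ = (y2 * y2)⁻¹ := (mul_inv_rev y2 y2).symm
        _ = y2 := by rw [← inv2, inv_inv])
    rw [← e]
    exact Subgroup.commutator_mem_commutator (mem_top _) (mem_top _)
  -- the image of the second element has a perfect centralizer
  obtain ⟨c, -, hcm⟩ := T.exists_ctx_b
  have hmw : c.m (T.pr Y2) = Cfsg.Lib.SuzukiType.ThreeU43.g0 := by rw [hcm Y2 h2z, ← res_g2r, ← m2]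
  have w3 : T.pr Y2 * T.pr Y2 * T.pr Y2 = 1 := by
    rw [← map_mul, ← map_mul, show Y2 * Y2 * Y2 = 1 from Subtype.ext cube2, map_one]
  haveI : Fact (Nat.Prime 3) := ⟨Nat.prime_three⟩
  have ow : orderOf (T.pr Y2) = 3 := orderOf_eq_prime (by rw [pow_three, ← mul_assoc, w3]) fun e =>
    Cfsg.Lib.SuzukiType.ThreeU43.g0_ne (by rw [← hmw, e, c.m_one])
  have wz : Commute (T.pr Y2) T.zb := T.commute_zb.mpr h2z
  obtain ⟨p, hp⟩ := c.exists_pt_ctx
  have hpy : p.toCtx.m (T.pr Y2) = Cfsg.Lib.SuzukiType.ThreeU43.g0 := by rw [hp]; exact hmw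
  have hys : Commute (T.pr Y2) p.s := commute_of_pm w3 wz p.X.zz p.X.ne
    (p.toCtx.pi_eq (p.toCtx.norm wz p.hs) p.hs (by
      rw [p.toCtx.act wz p.hs, hpy, p.πs, Cfsg.Lib.SuzukiType.ThreeU43.cd_g0 (by norm_num)]; decide +kernel))
  let S : Cfsg.Lib.SuzukiType.ThreeU43.Three T.zb :=
    { toPt := p, y := T.pr Y2, y3 := ow, yz := wz, ys := hys, my := hpy }
  let K : Subgroup ↥T.M := commutator ↥T.M ⊓ centralizer ({Y2} : Set ↥T.M)
  have hK : K.map T.pr = S.M := by
    refine le_antisymm ?_ fun w hw => ?_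
    · rintro _ ⟨a, ⟨-, ha⟩, rfl⟩
      replace ha := mem_centralizer_singleton_iff.mp ha
      exact S.mem_M.mpr (by show T.pr a * T.pr Y2 = T.pr Y2 * T.pr a; rw [← map_mul, ← map_mul, ha])
    · obtain ⟨a, ha, rfl⟩ := (hmap ▸ mem_top w : w ∈ (commutator ↥T.M).map T.pr)
      refine ⟨a, ⟨ha, mem_centralizer_singleton_iff.mpr (commutatorElement_eq_one_iff_mul_comm.mp (hker _
        (Subgroup.commutator_mem_commutator (mem_top _) (mem_top _)) ?_))⟩, rfl⟩
      rw [map_commutatorElement]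
      exact commutatorElement_eq_one_iff_commute.mpr (S.mem_M.mp hw)
  have hSM : S.M ≤ ⁅S.M, S.M⁆ := by
    have h := congrArg (Subgroup.map S.M.subtype) S.perfect_M
    rw [_root_.commutator_def, Subgroup.map_commutator, ← MonoidHom.range_eq_map, Subgroup.range_subtype] at h
    exact h.ge
  have hw : T.pr Y2 ∈ ⁅S.M, S.M⁆ := hSM (S.mem_M.mpr (Commute.refl _))
  rw [← hK, ← Subgroup.map_commutator] at hw
  obtain ⟨d, hd, hde⟩ := hw
  have hdY : d = Y2 := mul_inv_eq_one.mp (hker _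
    (mul_mem ((Subgroup.commutator_mono le_top le_top : ⁅K, K⁆ ≤ ⁅(⊤ : Subgroup ↥T.M), ⊤⁆) hd) (inv_mem hY2))
    (by rw [map_mul, map_inv, hde, mul_inv_cancel]))
  subst hdY
  obtain ⟨h, hh, hconj⟩ := g2r_conj
  obtain ⟨x, -, -, hxe⟩ := T.lift_to hh o2 h2z (by rw [m2, hconj])
  have hy2' : x⁻¹ * y2 * x = T.y := by rw [← hxe]; group
  set f : G →* G := (MulAut.conj x⁻¹).toMonoidHom
  have hle : (K.map T.M.subtype).map f ≤ T.M := by
    rintro _ ⟨_, ⟨a, ⟨-, ha⟩, rfl⟩, rfl⟩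
    replace ha := mem_centralizer_singleton_iff.mp ha
    have ha' : Commute (a : G) y2 := congrArg Subtype.val ha
    refine T.mem_M.mpr ?_
    show Commute (x⁻¹ * (a : G) * x⁻¹⁻¹) T.y
    rw [← hy2']
    have := (Commute.conj_iff x⁻¹).mpr ha'
    rwa [inv_inv] at this ⊢
  have hy : T.y ∈ ⁅T.M, T.M⁆ := by
    refine Subgroup.commutator_mono hle hle ?_
    rw [← Subgroup.map_commutator, ← Subgroup.map_commutator]
    exact ⟨y2, ⟨Y2, hd, rfl⟩, by show x⁻¹ * y2 * x⁻¹⁻¹ = T.y; rw [inv_inv, hy2']⟩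
  have hM : (commutator ↥T.M).map T.M.subtype = ⁅T.M, T.M⁆ := by
    rw [_root_.commutator_def, Subgroup.map_commutator, ← MonoidHom.range_eq_map, Subgroup.range_subtype]
  rw [← hM] at hy
  obtain ⟨v, hv, hve⟩ := hy
  exact hyD (by rwa [show (⟨T.y, hyM⟩ : ↥T.M) = v from Subtype.ext hve.symm])

theorem center_M : center ↥T.M = T.Ym := by
  refine le_antisymm (fun x hx => ?_) fun x hx => ?_
  · have : T.pr x ∈ center T.Hb := mem_center_iff.mpr fun w => by
      obtain ⟨v, rfl⟩ := T.pr_surj w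
      rw [← map_mul, ← map_mul, mem_center_iff.mp hx v]
    rw [T.center_b, Subgroup.mem_bot] at this
    exact (QuotientGroup.eq_one_iff _).mp this
  · rw [mem_center_iff]
    intro v
    obtain ⟨i, hi⟩ := mem_zpowers_iff.mp (T.mem_Ym.mp hx)
    refine Subtype.ext ?_
    push_cast
    rw [← hi]
    exact ((T.mem_M.mp v.2).zpow_right i).eq

theorem quasisimple : Cfsg.IsQuasisimple ↥T.M := by
  refine ⟨⟨T.perfect_M⟩, ?_⟩
  haveI := T.simple_b
  exact (QuotientGroup.quotientMulEquivOfEq T.center_M).isSimpleGroup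

end Three

end Cfsg.Lib.ConwayType.ThreeSuz
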