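import Cfsg.Agent.ConwayType.Point
import Cfsg.Agent.SuzukiType.Point
import Cfsg.Agent.ConwayType.ThreeSuz.Code

/-!
The rotation of an anisotropic line in the hyperbolic space of dimension eight: its conjugates in `Ω` and the
restriction of its centralizer to the fixed space.
-/

set_option autoImplicit false
set_option maxRecDepth 100000
set_option maxHeartbeats 1000000
set_option linter.unusedSectionVars false
set_option linter.style.haveILetI false

namespace Cfsg.Lib.ConwayType.ThreeSuz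

open Cfsg.Lib.Classical Cfsg.Lib.Classical.OrthH1 Cfsg.Lib.Classical.Refl
open Cfsg.Lib.ConwayType.Code Cfsg.Lib.ConwayType.ThreeSuz.Code

local notation "O6" => Cfsg.Lib.SuzukiType.O6
local notation "cd6" => Cfsg.Lib.SuzukiType.cd
local notation "qf6" => Cfsg.Lib.SuzukiType.qf
local notation "q6" => Cfsg.Lib.SuzukiType.Code.qB
local notation "e6" => Cfsg.Lib.SuzukiType.e6
local notation "Om6" => Cfsg.Lib.SuzukiType.Om

theorem mem_Om_iff {g : O8} : g ∈ Om ↔ Refl.dickson qf nondeg g = 1 := by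
  refine ⟨fun hg => hom_eq_one_of_omega qf (Refl.dickson qf nondeg) hg, fun h => ?_⟩
  obtain ⟨v, hv⟩ : ∃ v, qf v ≠ 0 := ⟨OrthH1.dec e8 34, by rw [hq _ (by norm_num)]; decide⟩
  have h2 := Subgroup.index_eq_two_iff.mp (Refl.index_omega_two qf nondeg (by simp) (Or.inr (by simp)))
  by_contra hg
  obtain ⟨a, ha⟩ := h2
  have key : ∀ b, b ∉ Om → Refl.dickson qf nondeg (b * a) = 1 := fun b hb =>
    hom_eq_one_of_omega qf (Refl.dickson qf nondeg) (((ha b).or).resolve_right hb)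
  have hr : refl qf v hv ∉ Om := fun hm => by
    have := hom_eq_one_of_omega qf (Refl.dickson qf nondeg) hm
    rw [Refl.dickson_refl] at this
    exact absurd this (by decide)
  have e1 := key g hg
  have e2 := key _ hr
  rw [map_mul, h, one_mul] at e1
  rw [map_mul, e1, mul_one, Refl.dickson_refl] at e2
  exact absurd e2 (by decide)

theorem mem_Om6_iff {g : O6} : g ∈ Om6 ↔ Refl.dickson qf6 Cfsg.Lib.SuzukiType.nondeg g = 1 := by
  refine ⟨fun hg => hom_eq_one_of_omega qf6 (Refl.dickson qf6 Cfsg.Lib.SuzukiType.nondeg) hg, fun h => ?_⟩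
  obtain ⟨v, hv⟩ : ∃ v, qf6 v ≠ 0 := ⟨OrthH1.dec e6 10, by rw [Cfsg.Lib.SuzukiType.hq _ (by norm_num)]; decide⟩
  obtain ⟨a, ha⟩ := Subgroup.index_eq_two_iff.mp
    (Refl.index_omega_two qf6 Cfsg.Lib.SuzukiType.nondeg (by simp) (Or.inr (by simp)))
  by_contra hg
  have key : ∀ b, b ∉ Om6 → Refl.dickson qf6 Cfsg.Lib.SuzukiType.nondeg (b * a) = 1 := fun b hb =>
    hom_eq_one_of_omega qf6 (Refl.dickson qf6 Cfsg.Lib.SuzukiType.nondeg) (((ha b).or).resolve_right hb)
  have hr : refl qf6 v hv ∉ Om6 := fun hm => by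
    have := hom_eq_one_of_omega qf6 (Refl.dickson qf6 Cfsg.Lib.SuzukiType.nondeg) hm
    rw [Refl.dickson_refl] at this
    exact absurd this (by decide)
  have e1 := key g hg
  have e2 := key _ hr
  rw [map_mul, h, one_mul] at e1
  rw [map_mul, e1, mul_one, Refl.dickson_refl] at e2
  exact absurd e2 (by decide)

theorem rf_lt {u x : ℕ} (hu : u < 256) (hx : x < 256) : rf u x < 256 := by
  unfold rf; split <;> [exact xor_lt hx hu; exact hx]

theorem rot_lt {a b x : ℕ} (ha : a < 256) (hb : b < 256) (hx : x < 256) : rot a b x < 256 := rf_lt ha (rf_lt hb hx)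

theorem refl_ne {u : ℕ} (hu : u < 256) (h : qB u = true) : qf (OrthH1.dec e8 u) ≠ 0 := by
  rw [hq _ (hu : u < 2 ^ 8), h]; decide

theorem cd_refl {u : ℕ} (hu : u < 256) (h : qB u = true) {x : ℕ} (hx : x < 256) :
    cd (refl qf (OrthH1.dec e8 u) (refl_ne hu h)) x = rf u x := by
  refine dec_inj _ (cd_lt _ _) _ (rf_lt hu hx) ?_
  rw [dec_cd, show mat qf (refl qf _ (refl_ne hu h)) = _ from Refl.coe_refl qf _ (refl_ne hu h), Refl.mulVec_eq,
    hq _ (hu : u < 2 ^ 8), h, show ofBit true = 1 from rfl, inv_one, one_mul, polar_dec qB e8 hq hu hx, rf]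
  show OrthH1.dec e8 x - ofBit (pN qB u x) • OrthH1.dec e8 u = OrthH1.dec e8 (if pN qB u x = true then x ^^^ u else x)
  cases pN qB u x
  · simp [ofBit]
  · rw [if_pos rfl, dec_xor]
    simp [ofBit, CharTwo.sub_eq_add]

/-- Products of two reflections lie in `Ω`. -/
theorem exists_rot {a b : ℕ} (ha : a < 256) (hb : b < 256) (qa : qB a = true) (qb : qB b = true) :
    ∃ e ∈ Om, ∀ x < 256, cd e x = rot a b x := by
  refine ⟨refl qf (OrthH1.dec e8 a) (refl_ne ha qa) * refl qf (OrthH1.dec e8 b) (refl_ne hb qb), ?_, fun x hx => ?_⟩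
  · rw [mem_Om_iff, map_mul, Refl.dickson_refl, Refl.dickson_refl]; decide
  · rw [cd_mul, cd_refl ha qa (cd_lt _ _), cd_refl hb qb hx]; rfl

/-- The standard rotation. -/
noncomputable def g0 : O8 := (exists_rot (a := 34) (b := 100) (by norm_num) (by norm_num) (by decide) (by decide)).choose

theorem g0_mem : g0 ∈ Om :=
  (exists_rot (a := 34) (b := 100) (by norm_num) (by norm_num) (by decide) (by decide)).choose_spec.1

theorem cd_g0 {x : ℕ} (hx : x < 256) : cd g0 x = r0 x :=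
  (exists_rot (a := 34) (b := 100) (by norm_num) (by norm_num) (by decide) (by decide)).choose_spec.2 x hx

theorem g0_cube : g0 * g0 * g0 = 1 := cd_ext fun x hx => by
  obtain ⟨-, h1, -, -, -, h2, -⟩ := ka_ok x hx
  rw [cd_mul, cd_mul, cd_g0 hx, cd_g0 h1, cd_g0 (ka_ok _ h1).2.1, h2, cd_one hx]

theorem cd_rf (h : O8) {u x : ℕ} (hu : u < 256) (hx : x < 256) : cd h (rf u x) = rf (cd h u) (cd h x) := by
  unfold rf
  rw [cd_p h hu hx]
  cases pB u x
  · simp
  · simp [cd_xor]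

theorem cd_rot (h : O8) {a b x : ℕ} (ha : a < 256) (hb : b < 256) (hx : x < 256) :
    cd h (rot a b x) = rot (cd h a) (cd h b) (cd h x) := by
  rw [rot, rot, cd_rf h ha (rf_lt hb hx), cd_rf h hb hx]

/-- An element carrying the standard pair to a given anisotropic pair. -/
theorem exists_pair {a b : ℕ} (ha : a < 256) (hb : b < 256) (qa : qB a = true) (qb : qB b = true)
    (pab : pB a b = true) : ∃ h ∈ Om, cd h 34 = a ∧ cd h 100 = b := by
  have hk := List.all_eq_true.mp perp_sing a (List.mem_range.mpr ha)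
  simp only [qa, Bool.not_true, Bool.false_or] at hk
  have hk' := List.all_eq_true.mp hk b (List.mem_range.mpr hb)
  simp only [qb, pab, Bool.not_true, Bool.false_or, List.any_eq_true, List.mem_range, Bool.and_eq_true,
    Bool.not_eq_true', bne_iff_ne, ne_eq] at hk'
  obtain ⟨x, hx, ⟨⟨qx, x0⟩, pxa⟩, pxb⟩ := hk'
  obtain ⟨g, hg, he⟩ := trans_sing hx x0 qx
  obtain ⟨a', ha'⟩ : ∃ a', a' = cd g⁻¹ a := ⟨_, rfl⟩
  obtain ⟨b', hb'⟩ : ∃ b', b' = cd g⁻¹ b := ⟨_, rfl⟩
  have e1 : cd g⁻¹ x = 1 := by rw [← he, cd_inv g (by norm_num)]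
  have pa : pB 1 a' = false := by rw [← e1, ha', cd_p _ hx ha, pxa]
  have pb : pB 1 b' = false := by rw [← e1, hb', cd_p _ hx hb, pxb]
  have la' : a' < 256 := ha' ▸ cd_lt _ _
  have lb' : b' < 256 := hb' ▸ cd_lt _ _
  obtain ⟨k, hk, k1, ka', kb'⟩ := trans_tt (nr_mem a' la') (nr_mem b' lb')
    (by rw [(nr_facts a' la' pa).2, ha', cd_q _ ha, qa]) (by rw [(nr_facts b' lb' pb).2, hb', cd_q _ hb, qb])
    (by rw [nr_p la' lb' pa pb, ha', hb', cd_p _ ha hb, pab])
  have l1 : (1 : ℕ) < 256 := by norm_num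
  have hinv : ∀ {c v : ℕ}, v ∈ W → c < 256 → pB 1 c = false → sa k v = nr c →
      ∃ i : Bool, cd k (v ^^^ (bif i then 1 else 0)) = c := by
    intro c v hv hc pc e
    obtain ⟨hv', hp, -⟩ := W_lt v hv
    rcases low_code (cd k v ^^^ c) (xor_lt (cd_lt k v) hc) (by
      rw [pB_add_right (cd_lt k v) hc l1, perp_cd k1 hv' hp, pc]; rfl) (by
      rw [nr_xor, ← e]; exact Nat.xor_self _) with r | r
    · exact ⟨false, by simpa using xor_eq_zero'.mp r⟩
    · refine ⟨true, ?_⟩
      rw [cd_xor]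
      show cd k v ^^^ cd k 1 = c
      rw [k1, ← r, ← Nat.xor_assoc, Nat.xor_self, Nat.zero_xor]
  obtain ⟨i, ei⟩ := hinv (show 34 ∈ W by decide) la' pa ka'
  obtain ⟨j, ej⟩ := hinv (show 100 ∈ W by decide) lb' pb kb'
  obtain ⟨w, hw, w1, w2⟩ := fix_ok i j
  refine ⟨g * k * rhoE w hw, mul_mem (mul_mem hg hk) (rhoE_mem hw), ?_, ?_⟩ <;>
    rw [cd_mul, cd_rhoE hw (by norm_num), cd_mul]
  · rw [w1, ei, ha', cd_inv' g ha]
  · rw [w2, ej, hb', cd_inv' g hb]

/-- An element of order three moving vectors only along four values is a conjugate of the standard rotation. -/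
theorem exists_conj {g : O8} (h3 : g * g * g = 1) (h1 : g ≠ 1) (S : Finset ℕ) (hS : S.card ≤ 4)
    (him : ∀ x < 256, cd g x ^^^ x ∈ S) : ∃ h ∈ Om, h * g0 * h⁻¹ = g := by
  classical
  obtain ⟨x0, hx0, hne⟩ : ∃ x < 256, cd g x ^^^ x ≠ 0 := by
    by_contra hh
    push Not at hh
    exact h1 (cd_ext fun x hx => by rw [xor_eq_zero'.mp (hh x hx), cd_one hx])
  have c3 : ∀ x < 256, cd g (cd g (cd g x)) = x := fun x hx => by rw [← cd_mul, ← cd_mul, h3, cd_one hx]
  set u := cd g x0 ^^^ x0 with hu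
  set v := cd g u with hv
  have lu : u < 256 := xor_lt (cd_lt g x0) hx0
  have lv : v < 256 := cd_lt g u
  have luv := xor_lt lu lv
  have hgv : cd g v = u ^^^ v := by
    rw [hv, hu, cd_xor, cd_xor, c3 x0 hx0]
    simp [Nat.xor_assoc, Nat.xor_left_comm, Nat.xor_comm]
  have v0 : v ≠ 0 := fun e => hne (by
    have : cd g u = cd g 0 := by rw [← hv, e, cd_zero]
    exact cd_inj g lu (by norm_num) this)
  have huv : u ≠ v := fun e => hne (by
    have h := hgv
    rw [← e, Nat.xor_self, show cd g u = v from hv.symm, ← e] at h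
    exact h)
  have uv0 : u ^^^ v ≠ 0 := fun e => huv (xor_eq_zero'.mp e)
  have hsub : ({0, u, v, u ^^^ v} : Finset ℕ) ⊆ S := by
    intro y hy
    simp only [Finset.mem_insert, Finset.mem_singleton] at hy
    rcases hy with rfl | rfl | rfl | rfl
    · have := him 0 (by norm_num)
      rwa [cd_zero, Nat.xor_self] at this
    · exact him x0 hx0
    · have := him (cd g x0) (cd_lt _ _)
      rwa [← cd_xor, ← hu, ← hv] at this
    · have := him (cd g (cd g x0)) (cd_lt _ _)
      rwa [← cd_xor, ← cd_xor, ← hu, ← hv, hgv] at this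
  have hcard : ({0, u, v, u ^^^ v} : Finset ℕ).card = 4 := by
    have a1 : u ≠ u ^^^ v := fun e => v0 (Nat.xor_right_inj.mp (e.symm.trans (Nat.xor_zero u).symm))
    have a2 : v ≠ u ^^^ v := fun e => hne (Nat.xor_left_inj.mp (e.symm.trans (Nat.zero_xor v).symm))
    rw [Finset.card_insert_of_notMem (by simp [Ne.symm hne, Ne.symm v0, Ne.symm uv0]),
      Finset.card_insert_of_notMem (by simp [huv, a1]), Finset.card_insert_of_notMem (by simp [a2]),
      Finset.card_singleton]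
  have hSe := Finset.eq_of_subset_of_card_le hsub (by omega)
  have him' : ∀ x < 256, cd g x ^^^ x = 0 ∨ cd g x ^^^ x = u ∨ cd g x ^^^ x = v ∨ cd g x ^^^ x = u ^^^ v := by
    intro x hx
    have := him x hx
    rw [← hSe] at this
    simpa using this
  have hfix : ∀ f < 256, cd g f = f → ∀ x < 256, pB (cd g x ^^^ x) f = false := fun f hf e x hx => by
    rw [pB_add_left (cd_lt g x) hx hf]
    conv_lhs => arg 1; rw [← e, cd_p g hx hf]
    exact Bool.xor_self _
  have qv : qB v = qB u := cd_q g lu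
  have quv : qB (u ^^^ v) = qB u := by rw [← hgv, cd_q g lv, qv]
  have puv : pB u v = true := by
    by_contra hp
    rw [Bool.not_eq_true] at hp
    have hspan : ∀ d, (d = 0 ∨ d = u ∨ d = v ∨ d = u ^^^ v) → pB u d = false := by
      rintro d (rfl | rfl | rfl | rfl)
      · rw [pB_comm, pB_zero]
      · exact pB_self u
      · exact hp
      · rw [pB_add_right lu lv lu, pB_self, hp]; rfl
    rcases nondeg_ok u lu with e | ⟨x, hx, e⟩
    · exact hne e
    have hx' : x < 256 := by simp at hx; omega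
    have l1 := cd_lt g x; have l2 := cd_lt g (cd g x)
    set f := x ^^^ cd g x ^^^ cd g (cd g x) with hf
    have lf : f < 256 := xor_lt (xor_lt hx' l1) l2
    have hf' : cd g f = f := by
      rw [hf, cd_xor, cd_xor, c3 x hx']
      simp [Nat.xor_assoc, Nat.xor_left_comm, Nat.xor_comm]
    have ex : x = f ^^^ (cd g x ^^^ x) ^^^ ((cd g (cd g x) ^^^ cd g x) ^^^ (cd g x ^^^ x)) := by
      rw [hf]; simp [Nat.xor_assoc, Nat.xor_left_comm, Nat.xor_comm]
    have d1 := hspan _ (him' x hx')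
    have d2 := hspan _ (him' _ l1)
    have lx := xor_lt l1 hx'; have ly := xor_lt l2 l1
    rw [ex, pB_add_right (xor_lt lf lx) (xor_lt ly lx) lu, pB_add_right lf lx lu, pB_add_right ly lx lu, d1, d2,
      show pB u f = false from hfix f lf hf' x0 hx0] at e
    exact absurd e (by decide)
  have qu : qB u = true := by
    have h := qB_add u v
    rw [puv, qv, quv] at h
    revert h; cases qB u <;> decide
  have pvu : pB v u = true := by rw [pB_comm, puv]
  have hperp : ∀ x < 256, pB u x = false → pB v x = false → cd g x = x := by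
    intro x hx p1 p2
    have pu : pB (cd g x) u = false := by
      rw [show u = cd g (u ^^^ v) by rw [cd_xor, ← hv, hgv, Nat.xor_comm, Nat.xor_assoc, Nat.xor_self, Nat.xor_zero],
        cd_p g hx luv, pB_add_right lu lv hx, pB_comm x u, pB_comm x v, p1, p2]; rfl
    have pv : pB (cd g x) v = false := by rw [hv, cd_p g hx lu, pB_comm, p1]
    have e1 : pB (cd g x ^^^ x) u = false := by rw [pB_add_left (cd_lt g x) hx lu, pu, pB_comm, p1]; rfl
    have e2 : pB (cd g x ^^^ x) v = false := by rw [pB_add_left (cd_lt g x) hx lv, pv, pB_comm, p2]; rfl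
    rcases him' x hx with e | e | e | e
    · exact xor_eq_zero'.mp e
    · rw [e, puv] at e2; exact absurd e2 (by decide)
    · rw [e, pvu] at e1; exact absurd e1 (by decide)
    · rw [e, pB_add_left lu lv lu, pB_self, pvu] at e1; exact absurd e1 (by decide)
  obtain ⟨h, hh, h34, h100⟩ := exists_pair lu lv qu (qv.trans qu) puv
  refine ⟨h, hh, cd_ext fun x hx => ?_⟩
  rw [cd_mul, cd_mul, cd_g0 (cd_lt _ _), cd_rot h (by norm_num) (by norm_num) (cd_lt _ _), cd_inv' h hx, h34, h100]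
  obtain ⟨pe, -, hpe⟩ := exists_rot lu lv qu (qv.trans qu)
  rw [← hpe x hx]
  have gu : cd pe u = v := by
    rw [hpe u lu]
    simp [rot, rf, pvu, pB_add_right lu lv lu, pB_self, puv, Nat.xor_comm v u]
  have gv : cd pe v = u ^^^ v := by
    rw [hpe v lv]
    simp [rot, rf, pB_self, puv, Nat.xor_comm]
  set i := pB x v with hi
  set j := pB x u with hj
  set c := (bif i then u else 0) ^^^ (bif j then v else 0) with hc
  have lc : c < 256 := by
    rw [hc]; cases i <;> cases j <;> simp [lu, lv, luv]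
  have lf := xor_lt hx lc
  have pf : pB u (x ^^^ c) = false ∧ pB v (x ^^^ c) = false := by
    rw [pB_add_right hx lc lu, pB_add_right hx lc lv, pB_comm u x, pB_comm v x, ← hi, ← hj, hc]
    cases i <;> cases j <;> simp [pB_comm _ 0, pB_zero, pB_self, puv, pvu, pB_add_right lu lv lu, pB_add_right lu lv lv]
  have ff : cd pe (x ^^^ c) = x ^^^ c := by rw [hpe _ lf]; simp [rot, rf, pf.1, pf.2]
  conv_lhs => rw [← Nat.xor_xor_cancel_right x c]
  conv_rhs => rw [← Nat.xor_xor_cancel_right x c]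
  rw [cd_xor pe (x ^^^ c) c, cd_xor g (x ^^^ c) c, ff, hperp _ lf pf.1 pf.2]
  congr 1
  rw [hc, cd_xor, cd_xor, cd_bif, cd_bif, cd_bif, cd_bif, gu, gv, hgv]

/-- Linear extension from the images of a basis. -/
theorem exists_code_map {F F' : ℕ → ℕ} (hF : ∀ x y, F (x ^^^ y) = F x ^^^ F y) (hF' : ∀ x y, F' (x ^^^ y) = F' x ^^^ F' y)
    (h : ∀ x < 256, F x < 256 ∧ qB (F x) = qB x ∧ F' (F x) = x ∧ F (F' x) = x ∧ F' x < 256) :
    ∃ g : O8, ∀ x < 256, cd g x = F x := by
  have lin : ∀ (K : ℕ → ℕ), (∀ x y, K (x ^^^ y) = K x ^^^ K y) → ∀ x < 256,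
      lN 8 ([1, 2, 4, 8, 16, 32, 64, 128].map K) x = K x := by
    intro K hK x hx
    have K0 : K 0 = 0 := by have := hK 0 0; rw [Nat.xor_self, Nat.xor_self] at this; exact this
    have Kb : ∀ (b : Bool) (y : ℕ), K (bif b then y else 0) = bif b then K y else 0 := fun b y => by
      cases b <;> simp [K0]
    conv_rhs => rw [← bits8 x hx]
    simp only [hK, Kb]
    simp [lN, List.range_succ, Nat.xor_assoc, Bool.cond_eq_ite]
  obtain ⟨g, hg⟩ := exists_iso qB e8 hq (im := [1, 2, 4, 8, 16, 32, 64, 128].map F)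
    (im' := [1, 2, 4, 8, 16, 32, 64, 128].map F') fun x (hx : x < 256) => by
      obtain ⟨h1, h2, h3, h4, hx'⟩ := h x hx
      exact ⟨by rw [lin F hF x hx]; exact h1, by rw [lin F hF x hx]; exact h2,
        by rw [lin F hF x hx, lin F' hF' _ h1]; exact h3, by rw [lin F' hF' x hx, lin F hF _ hx']; exact h4⟩
  exact ⟨g, fun x hx => by rw [cd, hg, lin F hF x hx, en_dec (h x hx).1]⟩

/-- Linear extension on the elliptic space. -/
theorem exists_code_map6 {F F' : ℕ → ℕ} (hF : ∀ x y, F (x ^^^ y) = F x ^^^ F y) (hF' : ∀ x y, F' (x ^^^ y) = F' x ^^^ F' y)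
    (h : ∀ x < 64, F x < 64 ∧ q6 (F x) = q6 x ∧ F' (F x) = x ∧ F (F' x) = x ∧ F' x < 64) :
    ∃ g : O6, ∀ x < 64, cd6 g x = F x := by
  have bits6 : ∀ x < 64, (bif x.testBit 0 then 1 else 0) ^^^ (bif x.testBit 1 then 2 else 0) ^^^
      (bif x.testBit 2 then 4 else 0) ^^^ (bif x.testBit 3 then 8 else 0) ^^^ (bif x.testBit 4 then 16 else 0) ^^^
      (bif x.testBit 5 then 32 else 0) = x := by decide +kernel
  have lin : ∀ (K : ℕ → ℕ), (∀ x y, K (x ^^^ y) = K x ^^^ K y) → ∀ x < 64,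
      lN 6 ([1, 2, 4, 8, 16, 32].map K) x = K x := by
    intro K hK x hx
    have K0 : K 0 = 0 := by have := hK 0 0; rw [Nat.xor_self, Nat.xor_self] at this; exact this
    have Kb : ∀ (b : Bool) (y : ℕ), K (bif b then y else 0) = bif b then K y else 0 := fun b y => by
      cases b <;> simp [K0]
    conv_rhs => rw [← bits6 x hx]
    simp only [hK, Kb]
    simp [lN, List.range_succ, Nat.xor_assoc, Bool.cond_eq_ite]
  obtain ⟨g, hg⟩ := exists_iso q6 e6 Cfsg.Lib.SuzukiType.hq (im := [1, 2, 4, 8, 16, 32].map F)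
    (im' := [1, 2, 4, 8, 16, 32].map F') fun x (hx : x < 64) => by
      obtain ⟨h1, h2, h3, h4, hx'⟩ := h x hx
      exact ⟨by rw [lin F hF x hx]; exact h1, by rw [lin F hF x hx]; exact h2,
        by rw [lin F hF x hx, lin F' hF' _ h1]; exact h3, by rw [lin F' hF' x hx, lin F hF _ hx']; exact h4⟩
  exact ⟨g, fun x hx => by rw [Cfsg.Lib.SuzukiType.cd, hg, lin F hF x hx, Cfsg.Lib.SuzukiType.en_dec (h x hx).1]⟩

theorem io_zero : io 0 = 0 := by decide

theorem ka_la {x : ℕ} (hx : x < 256) : ka (la x) = 0 := by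
  rw [la, ka_xor, (io_ok _ (ka_ok x hx).1).2.1, Nat.xor_self]

theorem la_la {x : ℕ} (hx : x < 256) : la (la x) = la x := by
  show la x ^^^ io (ka (la x)) = la x
  rw [ka_la hx, io_zero, Nat.xor_zero]

theorem la_lt {x : ℕ} (hx : x < 256) : la x < 256 := xor_lt hx (io_ok _ (ka_ok x hx).1).1

theorem split_io (x : ℕ) : io (ka x) ^^^ la x = x := by
  rw [la, Nat.xor_comm x, ← Nat.xor_assoc, Nat.xor_self, Nat.zero_xor]

theorem exists_ext (p : O6) : ∃ g : O8, ∀ x < 256, cd g x = io (cd6 p (ka x)) ^^^ la x := by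
  refine exists_code_map (F' := fun x => io (cd6 p⁻¹ (ka x)) ^^^ la x)
    (fun x y => by rw [ka_xor, Cfsg.Lib.SuzukiType.cd_xor, io_xor, la_xor]; simp [Nat.xor_assoc, Nat.xor_left_comm])
    (fun x y => by rw [ka_xor, Cfsg.Lib.SuzukiType.cd_xor, io_xor, la_xor]; simp [Nat.xor_assoc, Nat.xor_left_comm])
    fun x hx => ?_
  have hk := (ka_ok x hx).1
  have key : ∀ p : O6, io (cd6 p (ka x)) ^^^ la x < 256 ∧ ka (io (cd6 p (ka x)) ^^^ la x) = cd6 p (ka x) ∧
      la (io (cd6 p (ka x)) ^^^ la x) = la x := fun p => by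
    obtain ⟨l, k1, k2, -, -⟩ := io_ok _ (Cfsg.Lib.SuzukiType.cd_lt p (ka x))
    exact ⟨xor_lt l (la_lt hx), by rw [ka_xor, k1, ka_la hx, Nat.xor_zero],
      by rw [la_xor, k2, la_la hx, Nat.zero_xor]⟩
  obtain ⟨l, k1, k2⟩ := key p
  obtain ⟨l', k1', k2'⟩ := key p⁻¹
  refine ⟨l, ?_, ?_, ?_, l'⟩
  · rw [(ka_ok _ l).2.2.2.2.1, k1, k2, Cfsg.Lib.SuzukiType.cd_q p hk, ← (ka_ok x hx).2.2.2.2.1]
  · rw [k1, k2, Cfsg.Lib.SuzukiType.cd_inv p hk, split_io]
  · rw [k1', k2', Cfsg.Lib.SuzukiType.cd_inv' p hk, split_io]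

/-- An isometry of the fixed space extended by the identity on the line. -/
noncomputable def ext : O6 →* O8 where
  toFun p := (exists_ext p).choose
  map_one' := cd_ext fun x hx => by
    rw [(exists_ext 1).choose_spec x hx, Cfsg.Lib.SuzukiType.cd_one (ka_ok x hx).1, split_io, cd_one hx]
  map_mul' p q := cd_ext fun x hx => by
    obtain ⟨l, k1, k2, -, -⟩ := io_ok _ (Cfsg.Lib.SuzukiType.cd_lt q (ka x))
    rw [(exists_ext (p * q)).choose_spec x hx, cd_mul, (exists_ext q).choose_spec x hx,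
      (exists_ext p).choose_spec _ (xor_lt l (la_lt hx)), ka_xor, la_xor, k1, k2, ka_la hx, la_la hx, Nat.xor_zero,
      Nat.zero_xor, Cfsg.Lib.SuzukiType.cd_mul]

theorem cd_ext' (p : O6) {x : ℕ} (hx : x < 256) : cd (ext p) x = io (cd6 p (ka x)) ^^^ la x :=
  (exists_ext p).choose_spec x hx

theorem dickson_ext (p : O6) :
    Refl.dickson qf nondeg (ext p) = Refl.dickson qf6 Cfsg.Lib.SuzukiType.nondeg p := by
  refine MonoidHom.eqOn_closure (f := (Refl.dickson qf nondeg).comp ext)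
    (g := Refl.dickson qf6 Cfsg.Lib.SuzukiType.nondeg) (fun r hr => ?_)
    (Refl.mem_closure_refl qf6 Cfsg.Lib.SuzukiType.nondeg (Or.inr (by simp)) p)
  obtain ⟨v, hv, rfl⟩ := hr
  obtain ⟨u, hu, rfl⟩ := exists_code e6 v
  have qu : q6 u = true := by
    rw [Cfsg.Lib.SuzukiType.hq u hu] at hv
    revert hv; cases q6 u <;> simp [ofBit]
  obtain ⟨l, k1, k2, -, qq⟩ := io_ok u hu
  have e : ext (refl qf6 (OrthH1.dec e6 u) hv) = refl qf (OrthH1.dec e8 (io u)) (refl_ne l (qq.trans qu)) := by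
    refine cd_ext fun x hx => ?_
    have hk := (ka_ok x hx).1
    rw [cd_ext' _ hx, Cfsg.Lib.SuzukiType.cd_refl hu hv hk, cd_refl l (qq.trans qu) hx]
    have hp : pB (io u) x = Cfsg.Lib.SuzukiType.Code.pB u (ka x) := by
      show (qB (io u ^^^ x) ^^ qB (io u) ^^ qB x) = (q6 (u ^^^ ka x) ^^ q6 u ^^ q6 (ka x))
      rw [(ka_ok _ (xor_lt l hx)).2.2.2.2.1, (ka_ok x hx).2.2.2.2.1, ka_xor, la_xor, k1, k2, qq, Nat.zero_xor]
      cases q6 (u ^^^ ka x) <;> cases q6 u <;> cases q6 (ka x) <;> cases qB (la x) <;> rfl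
    rw [Cfsg.Lib.SuzukiType.Code.rf, rf, hp]
    cases Cfsg.Lib.SuzukiType.Code.pB u (ka x)
    · simp [split_io]
    · simp only [if_true]
      rw [io_xor, Nat.xor_assoc, Nat.xor_comm (io u), ← Nat.xor_assoc, split_io]
  show Refl.dickson qf nondeg (ext _) = _
  rw [e, Refl.dickson_refl, Refl.dickson_refl]

theorem ext_mem {p : O6} (hp : p ∈ Om6) : ext p ∈ Om := by
  rw [mem_Om_iff, dickson_ext]; exact mem_Om6_iff.mp hp

theorem r0_xor {x y : ℕ} (hx : x < 256) (hy : y < 256) : r0 (x ^^^ y) = r0 x ^^^ r0 y := by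
  rw [← cd_g0 hx, ← cd_g0 hy, ← cd_g0 (xor_lt hx hy), cd_xor]

theorem ext_comm (p : O6) : Commute (ext p) g0 := cd_ext fun x hx => by
  obtain ⟨-, hr, -, -, -, -, k, l⟩ := ka_ok x hx
  obtain ⟨lo, -, -, fo, -⟩ := io_ok _ (Cfsg.Lib.SuzukiType.cd_lt p (ka x))
  rw [cd_mul, cd_mul, cd_g0 hx, cd_ext' p hr, cd_ext' p hx, cd_g0 (xor_lt lo (la_lt hx)), k, l,
    r0_xor lo (la_lt hx), fo]

theorem io_fix {h : O8} (hc : Commute h g0) {k : ℕ} (hk : k < 64) : io (ka (cd h (io k))) = cd h (io k) := by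
  obtain ⟨l, -, -, f, -⟩ := io_ok k hk
  refine (ka_ok _ (cd_lt _ _)).2.2.1 ?_
  rw [← cd_g0 (cd_lt _ _), ← cd_mul, ← hc.eq, cd_mul, cd_g0 l, f]

theorem exists_res {h : O8} (hc : Commute h g0) : ∃ p : O6, ∀ k < 64, cd6 p k = ka (cd h (io k)) := by
  refine exists_code_map6 (F' := fun k => ka (cd h⁻¹ (io k))) (fun x y => by rw [io_xor, cd_xor, ka_xor])
    (fun x y => by rw [io_xor, cd_xor, ka_xor]) fun k hk => ?_
  obtain ⟨l, k1, -, -, qq⟩ := io_ok k hk
  have hl := (ka_ok _ (cd_lt h (io k))).1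
  have hl' := (ka_ok _ (cd_lt h⁻¹ (io k))).1
  refine ⟨hl, ?_, ?_, ?_, hl'⟩
  · rw [← (io_ok _ hl).2.2.2.2, io_fix hc hk, cd_q h l, qq]
  · show ka (cd h⁻¹ (io (ka (cd h (io k))))) = k
    rw [io_fix hc hk, cd_inv h l, k1]
  · show ka (cd h (io (ka (cd h⁻¹ (io k))))) = k
    rw [io_fix hc.inv_left hk, cd_inv' h l, k1]

/-- The restriction to the fixed space. -/
noncomputable def res (h : O8) : O6 :=
  @dite O6 (Commute h g0) (Classical.propDecidable _) (fun hc => (exists_res hc).choose) fun _ => 1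

theorem cd_res {h : O8} (hc : Commute h g0) {k : ℕ} (hk : k < 64) : cd6 (res h) k = ka (cd h (io k)) := by
  rw [res, dif_pos hc]; exact (exists_res hc).choose_spec k hk

theorem io_res {h : O8} (hc : Commute h g0) {k : ℕ} (hk : k < 64) : io (cd6 (res h) k) = cd h (io k) := by
  rw [cd_res hc hk, io_fix hc hk]

theorem res_mul {a b : O8} (ha : Commute a g0) (hb : Commute b g0) : res (a * b) = res a * res b :=
  Cfsg.Lib.SuzukiType.cd_ext fun k hk => by
    rw [Cfsg.Lib.SuzukiType.cd_mul, cd_res hb hk, cd_res ha (ka_ok _ (cd_lt _ _)).1, io_fix hb hk,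
      cd_res (ha.mul_left hb) hk, cd_mul]

theorem res_g0 : res g0 = 1 := Cfsg.Lib.SuzukiType.cd_ext fun k hk => by
  obtain ⟨l, k1, -, f, -⟩ := io_ok k hk
  rw [cd_res (Commute.refl g0) hk, cd_g0 l, f, k1, Cfsg.Lib.SuzukiType.cd_one hk]

theorem res_one : res 1 = 1 := Cfsg.Lib.SuzukiType.cd_ext fun k hk => by
  obtain ⟨l, k1, -, -, -⟩ := io_ok k hk
  rw [cd_res (Commute.one_left g0) hk, cd_one l, k1, Cfsg.Lib.SuzukiType.cd_one hk]

theorem res_pow (i : ℕ) : res (g0 ^ i) = 1 := by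
  induction i with
  | zero => rw [pow_zero, res_one]
  | succ i ih => rw [pow_succ, res_mul ((Commute.refl g0).pow_left i) (Commute.refl g0), ih, res_g0, one_mul]

theorem res_ext (p : O6) : res (ext p) = p := Cfsg.Lib.SuzukiType.cd_ext fun k hk => by
  obtain ⟨l, k1, k2, -, -⟩ := io_ok k hk
  rw [cd_res (ext_comm p) hk, cd_ext' p l, k1, k2, Nat.xor_zero,
    (io_ok _ (Cfsg.Lib.SuzukiType.cd_lt p k)).2.1]

/-- An element centralizing the rotation is given by its restriction and a power of the rotation. -/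
theorem decomp {h : O8} (hc : Commute h g0) : ∃ i < 3, h = ext (res h) * g0 ^ i := by
  obtain ⟨t, ht⟩ : ∃ t, t = (ext (res h))⁻¹ * h := ⟨_, rfl⟩
  have tc : Commute t g0 := ht ▸ (ext_comm _).inv_left.mul_left hc
  have tio : ∀ k < 64, cd t (io k) = io k := fun k hk => by
    obtain ⟨l, k1, k2, -, -⟩ := io_ok k hk
    have e : cd (ext (res h)) (io k) = cd h (io k) := by rw [cd_ext' _ l, k1, k2, Nat.xor_zero, io_res hc hk]
    rw [ht, cd_mul, ← e, cd_inv _ l]
  have hperp : ∀ v ∈ [1, 8, 16, 128, 98, 68], ∃ k < 64, io k = v ∧ pB 34 v = false := by decide +kernel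
  obtain ⟨hline, r1, r2, -⟩ := line_ok
  have h34 := List.all_eq_true.mp hline (cd t 34) (List.mem_range.mpr (cd_lt _ _))
  have hall : ([1, 8, 16, 128, 98, 68].all fun v => !pB (cd t 34) v) = true := by
    rw [List.all_eq_true]
    intro v hv
    obtain ⟨k, hk, e, hp⟩ := hperp v hv
    rw [← e, ← tio k hk, cd_p t (by norm_num) (io_ok k hk).1, e, hp]; rfl
  simp only [hall, Bool.not_true, Bool.false_or, Bool.or_eq_true, beq_iff_eq] at h34
  obtain ⟨i, hi, ei⟩ : ∃ i < 3, cd t 34 = cd (g0 ^ i) 34 := by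
    rcases h34 with ((e | e) | e) | e
    · exfalso
      have := cd_inv t (show 34 < 256 by norm_num)
      rw [e, cd_zero] at this
      norm_num at this
    · exact ⟨0, by norm_num, by rw [e, pow_zero, cd_one (by norm_num)]⟩
    · exact ⟨1, by norm_num, by rw [e, pow_one, cd_g0 (by norm_num), r1]⟩
    · exact ⟨2, by norm_num, by rw [e, pow_two, cd_mul, cd_g0 (show 34 < 256 by norm_num), r1,
        cd_g0 (show 100 < 256 by norm_num), r2]⟩
  refine ⟨i, hi, ?_⟩
  have te : t = g0 ^ i := by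
    have gio : ∀ n : ℕ, ∀ k < 64, cd (g0 ^ n) (io k) = io k := fun n k hk => by
      obtain ⟨l, -, -, f, -⟩ := io_ok k hk
      induction n with
      | zero => rw [pow_zero, cd_one l]
      | succ n ih => rw [pow_succ, cd_mul, cd_g0 l, f, ih]
    have e100 : cd t 100 = cd (g0 ^ i) 100 := by
      rw [← r1, ← cd_g0 (show 34 < 256 by norm_num), ← cd_mul, ← cd_mul, tc.eq, ((Commute.refl g0).pow_left i).eq,
        cd_mul, cd_mul, ei]
    refine cd_ext fun x hx => ?_
    have hk := (ka_ok x hx).1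
    rw [← split_io x, cd_xor, cd_xor, tio _ hk, gio _ _ hk]
    congr 1
    rcases (ka_ok x hx).2.2.2.1 with e | e | e | e <;> rw [e]
    · rw [cd_zero, cd_zero]
    · exact ei
    · exact e100
    · rw [show (70 : ℕ) = 34 ^^^ 100 by decide, cd_xor, cd_xor, ei, e100]
  rw [← te, ht, mul_inv_cancel_left]

theorem res_mem {h : O8} (hh : h ∈ Om) (hc : Commute h g0) : res h ∈ Om6 := by
  obtain ⟨i, -, e⟩ := decomp hc
  rw [mem_Om6_iff, ← dickson_ext]
  have := mem_Om_iff.mp hh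
  rwa [e, map_mul, map_pow, mem_Om_iff.mp g0_mem, one_pow, mul_one] at this

end Cfsg.Lib.ConwayType.ThreeSuz
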