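import Cfsg.Agent.ConwayType.Pair
import Cfsg.Agent.SuzukiType.ThreeU43.Normal
import Cfsg.Agent.ConwayType.ThreeSuz.Space

/-!
Coordinates adapted to an element of order three with a quaternion commutator with the extraspecial group, and the
fusion of the two commuting conjugates in its centralizer.
-/

set_option autoImplicit false
set_option maxRecDepth 100000
set_option maxHeartbeats 1000000
set_option linter.unusedSectionVars false
set_option linter.style.haveILetI false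

namespace Cfsg.Lib.ConwayType.ThreeSuz

open Subgroup Cfsg.Lib.ConwayType.Code Cfsg.Lib.ConwayType.ThreeSuz.Code
open Cfsg.Lib.LargeExtra (X2)
open Cfsg.Lib.SuzukiType.ThreeU43 (exists_conj_mem)
open scoped commutatorElement

universe u

variable {G : Type u} [Group G] [Finite G] {z : G}

/-- An element of order three fixing `q` up to `z` fixes `q`. -/
theorem commute_of_pm {z y q : G} (y3 : y * y * y = 1) (yz : Commute y z) (zz : z * z = 1) (z1 : z ≠ 1)
    (h : y * q * y⁻¹ = q ∨ y * q * y⁻¹ = z * q) : Commute y q := by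
  rcases h with e | e
  · exact mul_inv_eq_iff_eq_mul.mp e
  · exfalso
    have key : y * (y * (y * q * y⁻¹) * y⁻¹) * y⁻¹ = z * q := by
      have e3 : ∀ w, y * (z * w) * y⁻¹ = z * (y * w * y⁻¹) := fun w => by
        rw [← mul_assoc y z w, yz.eq]; group
      rw [e, e3, e, e3, e3, e, ← mul_assoc z z, zz, one_mul]
    rw [show y * (y * (y * q * y⁻¹) * y⁻¹) * y⁻¹ = (y * y * y) * q * (y * y * y)⁻¹ by group, y3, one_mul,
      inv_one, mul_one] at key
    exact z1 (mul_eq_right.mp key.symm)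

theorem cube_of_order {e : G} (he : orderOf e = 3) : e * e * e = 1 := by
  have := pow_orderOf_eq_one e
  rwa [he, pow_three, ← mul_assoc] at this

theorem m_cube (c : Ctx z) {e : G} (he : orderOf e = 3) (hez : Commute e z) :
    c.m e * c.m e * c.m e = 1 ∧ c.m e ≠ 1 := by
  refine ⟨by rw [← c.m_mul hez hez, ← c.m_mul (hez.mul_left hez) hez, cube_of_order he, c.m_one], fun h => ?_⟩
  haveI : Fact (Nat.Prime 2) := ⟨Nat.prime_two⟩
  obtain ⟨k, hk⟩ := c.X.isP ⟨e, (c.m_one_iff hez).mp h⟩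
  have := orderOf_dvd_of_pow_eq_one (congrArg Subtype.val hk : e ^ 2 ^ k = 1)
  rw [he] at this
  have := Nat.Prime.dvd_of_dvd_pow Nat.prime_three this
  norm_num at this

/-- Coordinates adapted to an element of order three. -/
structure Three (z : G) extends Pt z where
  y : G
  y3 : orderOf y = 3
  yz : Commute y z
  ys : Commute y s
  my : toCtx.m y = g0

/-- Coordinates for an element of order three with a commutator of order eight. -/
theorem exists_three (c0 : Ctx z) {y : G} (hy : orderOf y = 3) (hyz : Commute y z)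
    (h8 : Nat.card ↥⁅c0.Q, zpowers y⁆ = 8)
    (hna : ¬ ∀ a ∈ ⁅c0.Q, zpowers y⁆, ∀ b ∈ ⁅c0.Q, zpowers y⁆, Commute a b) :
    ∃ t : Three z, t.y = y ∧ t.Q = c0.Q := by
  classical
  set R := ⁅c0.Q, zpowers y⁆ with hR
  have hyC : ∀ w ∈ zpowers y, Commute w z := fun w hw => by
    obtain ⟨k, rfl⟩ := mem_zpowers_iff.mp hw
    exact hyz.zpow_left k
  have hRQ : R ≤ c0.Q := by
    rw [hR, Subgroup.commutator_le]
    intro q hq w hw
    rw [commutatorElement_def, show q * w * q⁻¹ * w⁻¹ = q * (w * q⁻¹ * w⁻¹) by group]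
    exact mul_mem hq (c0.norm (hyC w hw) (inv_mem hq))
  push Not at hna
  obtain ⟨a, ha, b, hb, hab⟩ := hna
  have hzR : z ∈ R := by
    rcases c0.X.comm a (hRQ ha) b (hRQ hb) with e | e
    · exact absurd (commutatorElement_eq_one_iff_commute.mp e) hab
    · rw [← e, commutatorElement_def]
      exact mul_mem (mul_mem (mul_mem ha hb) (inv_mem ha)) (inv_mem hb)
  let S : Finset ℕ := (Finset.range 256).filter fun x => ∃ r ∈ R, c0.π r = x
  have hS : S.card ≤ 4 := by
    have hr : ∀ v : S, ∃ r ∈ R, c0.π r = v.1 := fun v => (Finset.mem_filter.mp v.2).2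
    choose r hr1 hr2 using hr
    let f : S × Bool → R := fun p => ⟨(bif p.2 then z else 1) * r p.1,
      mul_mem (by cases p.2 <;> simp [hzR, one_mem]) (hr1 _)⟩
    have hf : Function.Injective f := by
      rintro ⟨v, i⟩ ⟨w, j⟩ h
      have hv := congrArg Subtype.val h
      have h' := congrArg c0.π hv
      simp only [f] at h' hv
      rw [c0.π_mul _ (by cases i <;> simp [c0.X.mem, one_mem]) _ (hRQ (hr1 _)),
        c0.π_mul _ (by cases j <;> simp [c0.X.mem, one_mem]) _ (hRQ (hr1 _)), hr2, hr2] at h'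
      have e0 : ∀ i : Bool, c0.π (bif i then z else 1) = 0 := fun i => by
        cases i <;> simp [c0.pi_one, c0.pi_z]
      rw [e0, e0, Nat.zero_xor, Nat.zero_xor] at h'
      obtain rfl : v = w := Subtype.ext h'
      have := mul_right_cancel hv
      revert this
      cases i <;> cases j <;> simp [c0.X.ne, Ne.symm c0.X.ne]
    have := Nat.card_le_card_of_injective f hf
    rw [h8, Nat.card_prod, Nat.card_eq_finsetCard, Nat.card_eq_fintype_card, Fintype.card_bool] at this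
    omega
  obtain ⟨h3, h1⟩ := m_cube c0 hy hyz
  set g := c0.m y with hg
  have him : ∀ x < 256, cd g x ^^^ x ∈ S := by
    intro x hx
    obtain ⟨q, hq, rfl⟩ := c0.π_surj x hx
    refine Finset.mem_filter.mpr ⟨Finset.mem_range.mpr (xor_lt (cd_lt _ _) hx), ⁅q, y⁆,
      Subgroup.commutator_mem_commutator hq (mem_zpowers y), ?_⟩
    rw [commutatorElement_def, show q * y * q⁻¹ * y⁻¹ = q * (y * q⁻¹ * y⁻¹) by group,
      c0.π_mul _ hq _ (c0.norm hyz (inv_mem hq)), c0.act hyz (inv_mem hq), c0.pi_inv hq, Nat.xor_comm]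
  obtain ⟨h, hh, hconj⟩ := exists_conj h3 h1 S hS him
  let μ' : ↥(centralizer ({z} : Set G)) →* O8 := (MulAut.conj h⁻¹).toMonoidHom.comp c0.μ
  have hμ' : ∀ c, μ' c = h⁻¹ * c0.μ c * h := fun c => by simp [μ']
  let c : Ctx z :=
  { c0 with
    μ := μ'
    ker := fun x => by
      rw [hμ', ← c0.ker x]
      constructor
      · intro e
        calc c0.μ x = h * (h⁻¹ * c0.μ x * h) * h⁻¹ := by group
          _ = 1 := by rw [e]; group
      · intro e; rw [e]; group
    rng := by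
      refine le_antisymm ?_ fun g' hg' => ?_
      · rintro _ ⟨x, rfl⟩
        rw [hμ']
        exact mul_mem (mul_mem (inv_mem hh) (c0.rng ▸ ⟨x, rfl⟩)) hh
      · obtain ⟨x, hx⟩ : h * g' * h⁻¹ ∈ c0.μ.range := c0.rng ▸ mul_mem (mul_mem hh hg') (inv_mem hh)
        exact ⟨x, by rw [hμ', hx]; group⟩
    π := fun q => cd h⁻¹ (c0.π q)
    π_lt := fun q => cd_lt _ _
    π_mul := fun a ha b hb => by
      show cd h⁻¹ _ = _
      rw [c0.π_mul a ha b hb, cd_xor]
    π_surj := fun x hx => by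
      obtain ⟨q, hq, e⟩ := c0.π_surj (cd h x) (cd_lt _ _)
      exact ⟨q, hq, by show cd h⁻¹ _ = _; rw [e, cd_inv h hx]⟩
    π_zero := fun q hq => by
      show cd h⁻¹ _ = 0 ↔ _
      rw [← c0.π_zero q hq]
      refine ⟨fun e => ?_, fun e => by rw [e, cd_zero]⟩
      rw [← cd_inv' h (c0.π_lt q), e, cd_zero]
    π_sq := fun q hq => by
      show _ ↔ qB (cd h⁻¹ _) = false
      rw [cd_q _ (c0.π_lt q)]; exact c0.π_sq q hq
    π_comm := fun a ha b hb => by
      show _ ↔ pB (cd h⁻¹ _) (cd h⁻¹ _) = false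
      rw [cd_p _ (c0.π_lt a) (c0.π_lt b)]; exact c0.π_comm a ha b hb
    π_act := fun x q hq => by
      show cd h⁻¹ _ = cd (μ' x) (cd h⁻¹ _)
      rw [c0.π_act x q hq, hμ', ← cd_mul, ← cd_mul]
      congr 1
      group }
  have hcm : c.m y = g0 := by
    have e1 : c.m y = μ' ⟨y, mem_centralizer_singleton_iff.mpr hyz⟩ := by
      rw [Ctx.m, dif_pos (mem_centralizer_singleton_iff.mpr hyz)]
    have e2 : g = c0.μ ⟨y, mem_centralizer_singleton_iff.mpr hyz⟩ := by
      rw [hg, Ctx.m, dif_pos (mem_centralizer_singleton_iff.mpr hyz)]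
    rw [e1, hμ', ← e2, ← hconj]; group
  obtain ⟨p, hp⟩ := c.exists_pt_ctx
  have hpy : p.toCtx.m y = g0 := by rw [hp]; exact hcm
  have hpQ : p.toCtx.Q = c0.Q := by rw [hp]
  have hys : Commute y p.s := commute_of_pm (cube_of_order hy) hyz p.X.zz p.X.ne
    (p.toCtx.pi_eq (p.toCtx.norm hyz p.hs) p.hs (by
      rw [p.toCtx.act hyz p.hs, hpy, p.πs, cd_g0 (by norm_num)]; decide +kernel))
  exact ⟨{ toPt := p, y := y, y3 := hy, yz := hyz, ys := hys, my := hpy }, rfl, hpQ⟩

namespace Three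

variable (T : Three z)

theorem yyy : T.y * T.y * T.y = 1 := cube_of_order T.y3

/-- Lifting an element carrying the standard rotation to the image of an element of order three. -/
theorem lift_to {h : O8} (hh : h ∈ Om) {e : G} (he : orderOf e = 3) (hez : Commute e z)
    (hc : h * g0 * h⁻¹ = T.toCtx.m e) :
    ∃ x, Commute x z ∧ T.toCtx.m x = h ∧ x * T.y * x⁻¹ = e := by
  obtain ⟨d, hd, hdm⟩ := T.toCtx.m_surj hh
  set a := d * T.y * d⁻¹ with ha
  have haz : Commute a z := (hd.mul_left T.yz).mul_left hd.inv_left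
  have hmem : e * a⁻¹ ∈ T.Q := by
    rw [← T.toCtx.m_one_iff (hez.mul_left haz.inv_left), T.toCtx.m_mul hez haz.inv_left, T.toCtx.m_inv haz,
      ha, T.toCtx.m_mul (hd.mul_left T.yz) hd.inv_left, T.toCtx.m_mul hd T.yz, T.toCtx.m_inv hd, hdm, T.my, ← hc,
      mul_inv_cancel]
  obtain ⟨n, hn, hne⟩ := exists_conj_mem T.X.isP (by rw [ha]; exact ((MulAut.conj d).orderOf_eq T.y).trans T.y3) he
    (T.nQ (mem_centralizer_singleton_iff.mpr haz)) hmem
  refine ⟨n * d, (T.X.central n hn).mul_left hd, ?_, ?_⟩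
  · rw [T.toCtx.m_mul (T.X.central n hn) hd, (T.toCtx.m_one_iff (T.X.central n hn)).mpr hn, one_mul, hdm]
  · rw [← hne, ha]; group

theorem diff_W : ∀ w ∈ W, nr (r0 w) ^^^ w ∈ [0, 34, 100, 70] := by decide +kernel

/-- The swapping conjugate of the element is a rotation. -/
theorem swap_diff : ∃ S : Finset ℕ, S.card ≤ 4 ∧
    ∀ x < 256, cd (T.toCtx.m (T.k⁻¹ * T.y * T.k)) x ^^^ x ∈ S := by
  classical
  set p := T.toPt
  set e := T.k⁻¹ * T.y * T.k with he
  have ez : Commute e z := by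
    have := (Commute.conj_iff T.k⁻¹).mpr T.ys
    rwa [inv_inv, T.toPt.kinv_s] at this
  have es : Commute e T.s := by
    have := (Commute.conj_iff T.k⁻¹).mpr T.yz
    rwa [inv_inv, T.toPt.kinv_z] at this
  have eT : p.T e := ⟨ez, es⟩
  have yT : p.T T.y := ⟨T.yz, T.ys⟩
  have g1' := p.T_fix eT
  set g := T.toCtx.m e with hg
  have ho : orderOf e = 3 := by
    have := (MulAut.conj T.k⁻¹).orderOf_eq T.y
    simp only [MulAut.conj_apply, inv_inv] at this
    rw [he, this, T.y3]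
  obtain ⟨h3, -⟩ := m_cube T.toCtx ho ez
  have c3 : ∀ x < 256, cd g (cd g (cd g x)) = x := fun x hx => by rw [← cd_mul, ← cd_mul, h3, cd_one hx]
  have hV : ∀ v ∈ [0, 34, 100, 70], v ∈ W := by decide
  choose rv hrv hβ using fun v : {v // v ∈ W} => p.β_surj v.2
  let φ : ℕ → ℕ := fun v => if hv : v ∈ W then p.α (T.k⁻¹ * rv ⟨v, hv⟩ * T.k) else 0
  have hmove : ∀ w ∈ W, sa g w ^^^ w ∈ [0, 34, 100, 70].toFinset.image φ := by
    intro w hw
    obtain ⟨a, ha, rfl⟩ := p.α_surj hw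
    set r := T.k * a * T.k⁻¹ with hr
    have hR : p.R r := p.A_conj.mp ha
    have hRd : p.R (T.y * r * T.y⁻¹ * r⁻¹) := p.R_mul (p.R_norm yT hR) (p.R_inv hR)
    have hβd : p.β (T.y * r * T.y⁻¹ * r⁻¹) = nr (r0 (p.β r)) ^^^ p.β r := by
      have hri : p.β r⁻¹ = p.β r := by
        have := p.β_mul (p.R_inv hR) hR
        rw [inv_mul_cancel, p.β_E (Or.inl rfl)] at this
        exact xor_eq_zero'.mp this.symm
      rw [p.β_mul (p.R_norm yT hR) (p.R_inv hR), hri, p.β_conj yT hR, show p.toCtx.m T.y = g0 from T.my, sa,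
        cd_g0 (W_lt _ (p.β_mem r)).1]
    set v := p.β (T.y * r * T.y⁻¹ * r⁻¹) with hv
    have hv4 : v ∈ [0, 34, 100, 70] := by rw [hβd]; exact diff_W _ (p.β_mem r)
    refine Finset.mem_image.mpr ⟨v, List.mem_toFinset.mpr hv4, ?_⟩
    have hvW := hV v hv4
    simp only [φ, dif_pos hvW]
    have hf := p.R_fibre (hrv ⟨v, hvW⟩) hRd (hβ ⟨v, hvW⟩)
    have hfk : p.InE (T.k⁻¹ * ((rv ⟨v, hvW⟩)⁻¹ * (T.y * r * T.y⁻¹ * r⁻¹)) * T.k) := by
      rcases hf with f | f | f | f <;> rw [f]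
      · exact Or.inl (by group)
      · exact Or.inr (Or.inr (Or.inl T.toPt.kinv_z))
      · exact Or.inr (Or.inl T.toPt.kinv_s)
      · refine Or.inr (Or.inr (Or.inr ?_))
        rw [show T.k⁻¹ * (z * T.s) * T.k = T.k⁻¹ * z * T.k * (T.k⁻¹ * T.s * T.k) by group, T.toPt.kinv_z,
          T.toPt.kinv_s, T.toPt.sz.eq]
    have hav : p.A (T.k⁻¹ * rv ⟨v, hvW⟩ * T.k) := p.R_conj.mp (hrv _)
    have e1 : e * a * e⁻¹ * a⁻¹ = T.k⁻¹ * rv ⟨v, hvW⟩ * T.k *
        (T.k⁻¹ * ((rv ⟨v, hvW⟩)⁻¹ * (T.y * r * T.y⁻¹ * r⁻¹)) * T.k) := by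
      rw [he, hr]; group
    have e2 := congrArg p.α e1
    rw [p.α_mul (p.A_norm eT ha) (p.A_inv ha), p.α_inv ha, p.α_conj eT ha, p.α_mul hav (p.E_A hfk), p.α_E hfk,
      Nat.xor_zero] at e2
    exact e2.symm
  let S : Finset ℕ := W.toFinset.image fun w => cd g w ^^^ w
  refine ⟨S, ?_, fun x hx => ?_⟩
  · have hinj : Set.InjOn nr S := by
      intro d hd d' hd' hnr
      obtain ⟨w, hw, rfl⟩ := Finset.mem_image.mp hd
      obtain ⟨w', hw', rfl⟩ := Finset.mem_image.mp hd'
      rw [List.mem_toFinset] at hw hw'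
      obtain ⟨lw, pw, -⟩ := W_lt _ (W_xor w hw w' hw')
      have hE : cd g (w ^^^ w') ^^^ (w ^^^ w') = (cd g w ^^^ w) ^^^ (cd g w' ^^^ w') := by
        rw [cd_xor]; simp [Nat.xor_assoc, Nat.xor_left_comm]
      refine xor_eq_zero'.mp (hE ▸ ?_)
      rcases low_code _ (xor_lt (cd_lt g (w ^^^ w')) lw) (by
        rw [pB_add_right (cd_lt g _) lw (by norm_num), perp_cd g1' lw pw, pw]; rfl) (by
        rw [hE, nr_xor, hnr, Nat.xor_self]) with q | q
      · exact q
      · exfalso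
        have hgw : cd g (w ^^^ w') = (w ^^^ w') ^^^ 1 := by
          rw [← q, Nat.xor_comm (cd g (w ^^^ w')), ← Nat.xor_assoc, Nat.xor_self, Nat.zero_xor]
        have := c3 _ lw
        rw [hgw, cd_xor, g1', hgw, Nat.xor_xor_cancel_right, hgw] at this
        exact absurd (Nat.xor_right_inj.mp (this.trans (Nat.xor_zero _).symm)) (by norm_num)
    rw [← Finset.card_image_of_injOn hinj]
    refine (Finset.card_le_card ?_).trans ((Finset.card_image_le (f := φ) (s := [0, 34, 100, 70].toFinset)).trans ((List.toFinset_card_le _).trans (by simp)))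
    intro d hd
    obtain ⟨_, hd', rfl⟩ := Finset.mem_image.mp hd
    obtain ⟨w, hw, rfl⟩ := Finset.mem_image.mp hd'
    rw [List.mem_toFinset] at hw
    rw [nr_xor, (W_lt w hw).2.2]
    exact hmove w hw
  · set d := cd g x ^^^ x with hd
    have ld : d < 256 := xor_lt (cd_lt g x) hx
    have pd : pB 1 d = false := by
      rw [hd, pB_add_right (cd_lt g x) hx (by norm_num)]
      conv_lhs => arg 1; rw [← g1', cd_p g (by norm_num) hx]
      exact Bool.xor_self _
    have hsum : cd g (cd g d) ^^^ cd g d = d := by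
      rw [hd, cd_xor, cd_xor, c3 x hx]
      simp [Nat.xor_assoc, Nat.xor_left_comm, Nat.xor_comm]
    have l1 := cd_lt g d
    have p1 := perp_cd g1' ld pd
    refine Finset.mem_image.mpr ⟨nr (cd g d), List.mem_toFinset.mpr (nr_mem _ l1), ?_⟩
    rcases nr_split l1 p1 with q | q
    · rw [← q, hsum]
    · conv_rhs => rw [← hsum, q, cd_xor, g1']
      simp [Nat.xor_assoc, Nat.xor_left_comm, Nat.xor_comm]

theorem exists_swap_y : ∃ h, Commute h T.y ∧ h * z * h⁻¹ = T.s := by
  have ez : Commute (T.k⁻¹ * T.y * T.k) z := by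
    have := (Commute.conj_iff T.k⁻¹).mpr T.ys
    rwa [inv_inv, T.toPt.kinv_s] at this
  have he : orderOf (T.k⁻¹ * T.y * T.k) = 3 := by
    have := (MulAut.conj T.k⁻¹).orderOf_eq T.y
    simp only [MulAut.conj_apply, inv_inv] at this
    rw [this, T.y3]
  obtain ⟨S, hS, him⟩ := T.swap_diff
  obtain ⟨h3, h1⟩ := m_cube T.toCtx he ez
  obtain ⟨h, hh, hc⟩ := exists_conj h3 h1 S hS him
  obtain ⟨x, hxz, -, hxe⟩ := T.lift_to hh he ez hc
  refine ⟨T.k * x, ?_, ?_⟩
  · refine mul_inv_eq_iff_eq_mul.mp ?_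
    calc T.k * x * T.y * (T.k * x)⁻¹ = T.k * (x * T.y * x⁻¹) * T.k⁻¹ := by group
      _ = T.y := by rw [hxe]; group
  · calc T.k * x * z * (T.k * x)⁻¹ = T.k * (x * z * x⁻¹) * T.k⁻¹ := by group
      _ = T.s := by rw [hxz.eq, mul_inv_cancel_right, T.kz]

end Three

end Cfsg.Lib.ConwayType.ThreeSuz
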