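import Cfsg.Agent.ConwayType.ThreeSuz.Normal
import Cfsg.Agent.SuzukiType.Setting

/-!
The centralizer of the element of order three modulo that element has an involution centralizer of Suzuki type.
-/

set_option autoImplicit false
set_option maxRecDepth 100000
set_option maxHeartbeats 1000000
set_option linter.unusedSectionVars false
set_option linter.style.haveILetI false

namespace Cfsg.Lib.ConwayType.ThreeSuz

open Subgroup Cfsg.Lib.ConwayType.Code Cfsg.Lib.ConwayType.ThreeSuz.Code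
open Cfsg.Lib.LargeExtra (X2)
open scoped commutatorElement

universe u

local notation "q6" => Cfsg.Lib.SuzukiType.Code.qB
local notation "p6" => Cfsg.Lib.SuzukiType.Code.pB

theorem pB_io {a b : ℕ} (ha : a < 64) (hb : b < 64) : pB (io a) (io b) = p6 a b := by
  show (qB (io a ^^^ io b) ^^ qB (io a) ^^ qB (io b)) = (q6 (a ^^^ b) ^^ q6 a ^^ q6 b)
  rw [← io_xor, (io_ok _ (Nat.xor_lt_two_pow ha hb : _ < 2 ^ 6)).2.2.2.2, (io_ok a ha).2.2.2.2, (io_ok b hb).2.2.2.2]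

variable {G : Type u} [Group G] [Finite G] {z : G}

namespace Three

variable (T : Three z)

/-- The part of the extraspecial group fixed by the element. -/
def Q0 : Subgroup G := T.Q ⊓ centralizer ({T.y} : Set G)

/-- The centralizer of the element. -/
def M : Subgroup G := centralizer ({T.y} : Set G)

theorem mem_Q0 {q : G} : q ∈ T.Q0 ↔ q ∈ T.Q ∧ Commute q T.y := by
  rw [Q0, mem_inf, mem_centralizer_singleton_iff]; rfl

theorem mem_M {x : G} : x ∈ T.M ↔ Commute x T.y := mem_centralizer_singleton_iff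

theorem code_Q0 {q : G} (hq : q ∈ T.Q) : q ∈ T.Q0 ↔ r0 (T.π q) = T.π q := by
  have he : T.π (T.y * q * T.y⁻¹) = r0 (T.π q) := by rw [T.toCtx.act T.yz hq, T.my, cd_g0 (T.π_lt q)]
  rw [T.mem_Q0]
  refine ⟨fun h => by rw [← he, ← h.2.eq, mul_inv_cancel_right], fun h => ⟨hq, (commute_of_pm T.yyy T.yz T.X.zz T.X.ne
    (T.toCtx.pi_eq (T.toCtx.norm T.yz hq) hq (he.trans h))).symm⟩⟩

theorem io_π {q : G} (hq : q ∈ T.Q0) : io (ka (T.π q)) = T.π q :=
  (ka_ok _ (T.π_lt q)).2.2.1 ((T.code_Q0 (T.mem_Q0.mp hq).1).mp hq)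

theorem exists_Q0 {k : ℕ} (hk : k < 64) : ∃ q ∈ T.Q0, T.π q = io k := by
  obtain ⟨q, hq, e⟩ := T.π_surj (io k) (io_ok k hk).1
  exact ⟨q, (T.code_Q0 hq).mpr (by rw [e]; exact (io_ok k hk).2.2.2.1), e⟩

theorem z_Q0 : z ∈ T.Q0 := T.mem_Q0.mpr ⟨T.X.mem, T.yz.symm⟩

theorem s_Q0 : T.s ∈ T.Q0 := T.mem_Q0.mpr ⟨T.hs, T.ys.symm⟩

theorem card_Q0 : Nat.card ↥T.Q0 = 128 := by
  classical
  choose lift hlift hπ using fun x : Fin 64 => T.exists_Q0 x.2
  let f : Bool × Fin 64 → T.Q0 := fun p => ⟨(bif p.1 then z else 1) * lift p.2,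
    mul_mem (by cases p.1 <;> simp [T.z_Q0, one_mem]) (hlift _)⟩
  have hQ : ∀ x, lift x ∈ T.Q := fun x => (T.mem_Q0.mp (hlift x)).1
  have hf : Function.Bijective f := by
    refine ⟨?_, fun q => ?_⟩
    · rintro ⟨i, v⟩ ⟨j, w⟩ h
      have hv := congrArg Subtype.val h
      have h' := congrArg T.π hv
      simp only [f] at h' hv
      rw [T.π_mul _ (by cases i <;> simp [T.X.mem, one_mem]) _ (hQ _),
        T.π_mul _ (by cases j <;> simp [T.X.mem, one_mem]) _ (hQ _), hπ, hπ] at h'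
      have e0 : ∀ i : Bool, T.π (bif i then z else 1) = 0 := fun i => by
        cases i <;> simp [T.toCtx.pi_one, T.toCtx.pi_z]
      rw [e0, e0, Nat.zero_xor, Nat.zero_xor] at h'
      obtain rfl : v = w := Fin.ext (by rw [← (io_ok _ v.2).2.1, h', (io_ok _ w.2).2.1])
      have := mul_right_cancel hv
      revert this
      cases i <;> cases j <;> simp [T.X.ne, Ne.symm T.X.ne]
    · obtain ⟨hqQ, -⟩ := T.mem_Q0.mp q.2
      let x : Fin 64 := ⟨ka (T.π q), (ka_ok _ (T.π_lt _)).1⟩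
      rcases T.toCtx.pi_eq hqQ (hQ x) (by rw [hπ]; exact (T.io_π q.2).symm) with e | e
      · exact ⟨(false, x), Subtype.ext (by simp [f, e])⟩
      · exact ⟨(true, x), Subtype.ext (by simp [f, e])⟩
  rw [← Nat.card_eq_of_bijective f hf, Nat.card_prod, Nat.card_fin, Nat.card_eq_fintype_card, Fintype.card_bool]

/-- The group generated by the element, inside its centralizer. -/
def Ym : Subgroup ↥T.M := (zpowers T.y).subgroupOf T.M

theorem mem_Ym {x : ↥T.M} : x ∈ T.Ym ↔ (x : G) ∈ zpowers T.y := mem_subgroupOf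

instance Ym_normal : T.Ym.Normal := ⟨fun n hn g => by
  rw [T.mem_Ym] at hn ⊢
  obtain ⟨i, hi⟩ := mem_zpowers_iff.mp hn
  push_cast
  rw [← hi, ((T.mem_M.mp g.2).zpow_right i).eq, mul_inv_cancel_right]
  exact ⟨i, rfl⟩⟩

/-- The quotient. -/
abbrev Hb : Type u := ↥T.M ⧸ T.Ym

/-- The projection. -/
def pr : ↥T.M →* T.Hb := QuotientGroup.mk' T.Ym

theorem pr_surj (w : T.Hb) : ∃ x, T.pr x = w := QuotientGroup.mk'_surjective _ w

theorem pr_eq {a b : ↥T.M} : T.pr a = T.pr b ↔ ∃ i : ℕ, i < 3 ∧ (b : G) = (a : G) * T.y ^ i := by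
  show (a : T.Hb) = (b : T.Hb) ↔ _
  rw [QuotientGroup.eq, T.mem_Ym]
  push_cast
  constructor
  · intro h
    classical
    obtain ⟨i, hi, e⟩ := Finset.mem_image.mp
      ((IsOfFinOrder.mem_zpowers_iff_mem_range_orderOf (isOfFinOrder_of_finite T.y)).mp h)
    rw [Finset.mem_range, T.y3] at hi
    exact ⟨i, hi, by rw [e, mul_inv_cancel_left]⟩
  · rintro ⟨i, -, e⟩
    rw [e, inv_mul_cancel_left]
    exact pow_mem (mem_zpowers _) i

theorem Q0_four {q : G} (hq : q ∈ T.Q0) : q ^ 4 = 1 := by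
  rcases T.X.sq q (T.mem_Q0.mp hq).1 with e | e <;>
    rw [show q ^ 4 = (q * q) * (q * q) by rw [← sq, ← sq, ← pow_mul], e]
  · exact one_mul 1
  · exact T.X.zz

/-- A two-element of the centraliser congruent to another one is equal to it. -/
theorem eq_of_pr {a b : ↥T.M} (ha : (a : G) ^ 4 = 1) (hb : (b : G) ^ 4 = 1) (h : T.pr a = T.pr b) : a = b := by
  obtain ⟨i, hi, e⟩ := T.pr_eq.mp h
  refine Subtype.ext ?_
  have h4 : (T.y ^ i) ^ 4 = 1 := by
    rw [e, ((T.mem_M.mp a.2).pow_right i).mul_pow, ha, one_mul] at hb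
    exact hb
  rw [← pow_mul] at h4
  have := orderOf_dvd_of_pow_eq_one h4
  rw [T.y3] at this
  obtain rfl : i = 0 := by omega
  rw [e, pow_zero, mul_one]

theorem Q0_M {q : G} (hq : q ∈ T.Q0) : q ∈ T.M := T.mem_M.mpr (T.mem_Q0.mp hq).2

/-- The image of an element of the fixed group. -/
def pq (q : G) (hq : q ∈ T.Q0) : T.Hb := T.pr ⟨q, T.Q0_M hq⟩

theorem pq_mul {a b : G} (ha : a ∈ T.Q0) (hb : b ∈ T.Q0) : T.pq (a * b) (mul_mem ha hb) = T.pq a ha * T.pq b hb :=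
  map_mul T.pr ⟨a, T.Q0_M ha⟩ ⟨b, T.Q0_M hb⟩

theorem pq_one : T.pq 1 (one_mem _) = 1 := map_one T.pr

theorem pq_inj {a b : G} (ha : a ∈ T.Q0) (hb : b ∈ T.Q0) : T.pq a ha = T.pq b hb ↔ a = b :=
  ⟨fun h => congrArg Subtype.val (T.eq_of_pr (a := ⟨a, T.Q0_M ha⟩) (b := ⟨b, T.Q0_M hb⟩) (T.Q0_four ha) (T.Q0_four hb) h),
    fun h => by subst h; rfl⟩

/-- The involution in the quotient. -/
def zb : T.Hb := T.pq z T.z_Q0

/-- The fixed group in the quotient. -/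
def Qb : Subgroup T.Hb := (T.Q0.subgroupOf T.M).map T.pr

theorem mem_Qb {w : T.Hb} : w ∈ T.Qb ↔ ∃ q, ∃ hq : q ∈ T.Q0, T.pq q hq = w := by
  constructor
  · rintro ⟨q, hq, rfl⟩; exact ⟨q, hq, rfl⟩
  · rintro ⟨q, hq, rfl⟩; exact ⟨⟨q, T.Q0_M hq⟩, hq, rfl⟩

theorem commute_zb {x : ↥T.M} : Commute (T.pr x) T.zb ↔ Commute (x : G) z := by
  constructor
  · intro h
    have h' : T.pr (x * ⟨z, T.Q0_M T.z_Q0⟩ * x⁻¹) = T.zb := by
      rw [map_mul, map_mul, map_inv]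
      show T.pr x * T.zb * (T.pr x)⁻¹ = _
      rw [h.eq, mul_inv_cancel_right]
    have := T.eq_of_pr (by push_cast; rw [conj_pow, T.Q0_four T.z_Q0]; group) (T.Q0_four T.z_Q0) h'
    exact mul_inv_eq_iff_eq_mul.mp (congrArg Subtype.val this)
  · intro h
    show T.pr x * T.pr _ = T.pr _ * T.pr x
    rw [← map_mul, ← map_mul]
    exact congrArg T.pr (Subtype.ext h.eq)

theorem zb_order : orderOf T.zb = 2 := by
  refine orderOf_eq_prime ?_ fun e => ?_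
  · rw [sq, zb, ← T.pq_mul, (T.pq_inj _ (one_mem _)).mpr T.X.zz, T.pq_one]
  · rw [zb, ← T.pq_one, T.pq_inj] at e
    exact T.X.ne e

theorem cardQb : Nat.card ↥T.Qb = 128 := by
  rw [← T.card_Q0]
  refine (Nat.card_eq_of_bijective (fun q : T.Q0 => (⟨T.pq q q.2, T.mem_Qb.mpr ⟨q, q.2, rfl⟩⟩ : T.Qb))
    ⟨fun a b h => Subtype.ext ((T.pq_inj a.2 b.2).mp (congrArg Subtype.val h)), fun ⟨w, hw⟩ => ?_⟩).symm
  obtain ⟨q, hq, rfl⟩ := T.mem_Qb.mp hw
  exact ⟨⟨q, hq⟩, rfl⟩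

theorem norm_Q0 {x q : G} (hxz : Commute x z) (hxy : Commute x T.y) (hq : q ∈ T.Q0) : x * q * x⁻¹ ∈ T.Q0 :=
  T.mem_Q0.mpr ⟨T.toCtx.norm hxz (T.mem_Q0.mp hq).1, (hxy.mul_left (T.mem_Q0.mp hq).2).mul_left hxy.inv_left⟩

theorem m_comm {x : G} (hxz : Commute x z) (hxy : Commute x T.y) : Commute (T.toCtx.m x) g0 := by
  show T.toCtx.m x * g0 = g0 * T.toCtx.m x
  rw [← T.my, ← T.toCtx.m_mul hxz T.yz, ← T.toCtx.m_mul T.yz hxz, hxy.eq]

theorem m_pow {x : G} (hx : Commute x z) : ∀ n : ℕ, T.toCtx.m (x ^ n) = T.toCtx.m x ^ n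
  | 0 => by rw [pow_zero, pow_zero, T.toCtx.m_one]
  | n + 1 => by rw [pow_succ, pow_succ, T.toCtx.m_mul (hx.pow_left n) hx, m_pow hx n]

theorem act_Q0 {x q : G} (hxz : Commute x z) (hxy : Commute x T.y) (hq : q ∈ T.Q0) :
    ka (T.π (x * q * x⁻¹)) = Cfsg.Lib.SuzukiType.cd (res (T.toCtx.m x)) (ka (T.π q)) := by
  rw [cd_res (T.m_comm hxz hxy) (ka_ok _ (T.π_lt q)).1, T.io_π hq, T.toCtx.act hxz (T.mem_Q0.mp hq).1]

theorem exists_μ : ∃ μ : ↥(centralizer ({T.zb} : Set T.Hb)) →* Cfsg.Lib.SuzukiType.O6,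
    ∀ (x : ↥T.M) (hx : Commute (x : G) z),
      μ ⟨T.pr x, mem_centralizer_singleton_iff.mpr (T.commute_zb.mpr hx).eq⟩ = res (T.toCtx.m x) := by
  have hlift : ∀ c : ↥(centralizer ({T.zb} : Set T.Hb)), ∃ x : ↥T.M, Commute (x : G) z ∧ T.pr x = c := fun c => by
    obtain ⟨x, hx⟩ := T.pr_surj c
    exact ⟨x, T.commute_zb.mp (by rw [hx]; exact mem_centralizer_singleton_iff.mp c.2), hx⟩
  choose L hLz hLp using hlift
  have indep : ∀ {a b : ↥T.M}, Commute (a : G) z → T.pr a = T.pr b → res (T.toCtx.m b) = res (T.toCtx.m a) := by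
    intro a b ha h
    obtain ⟨i, -, e⟩ := T.pr_eq.mp h
    rw [e, T.toCtx.m_mul ha (T.yz.pow_left i), T.m_pow T.yz, T.my,
      res_mul (T.m_comm ha (T.mem_M.mp a.2)) ((Commute.refl g0).pow_left i), res_pow, mul_one]
  refine ⟨MonoidHom.mk' (fun c => res (T.toCtx.m (L c))) fun a b => ?_, fun x hx => ?_⟩
  · show res (T.toCtx.m (L (a * b))) = res (T.toCtx.m (L a)) * res (T.toCtx.m (L b))
    rw [← res_mul (T.m_comm (hLz a) (T.mem_M.mp (L a).2)) (T.m_comm (hLz b) (T.mem_M.mp (L b).2)),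
      ← T.toCtx.m_mul (hLz a) (hLz b)]
    exact indep (a := L a * L b) ((hLz a).mul_left (hLz b)) (by rw [map_mul, hLp, hLp, hLp]; rfl)
  · exact indep hx (hLp ⟨T.pr x, mem_centralizer_singleton_iff.mpr (T.commute_zb.mpr hx).eq⟩).symm

/-- The setting in the quotient. -/
theorem exists_ctx_b : ∃ c : Cfsg.Lib.SuzukiType.Ctx T.zb,
    c.Q = T.Qb ∧ ∀ x : ↥T.M, Commute (x : G) z → c.m (T.pr x) = res (T.toCtx.m x) := by
  classical
  obtain ⟨μ, hμ⟩ := T.exists_μ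
  let πf : T.Hb → ℕ := fun w => if h : w ∈ T.Qb then ka (T.π (T.mem_Qb.mp h).choose) else 0
  have hπ : ∀ {q} (hq : q ∈ T.Q0), πf (T.pq q hq) = ka (T.π q) := fun {q} hq => by
    have hm : T.pq q hq ∈ T.Qb := T.mem_Qb.mpr ⟨q, hq, rfl⟩
    obtain ⟨hq', e⟩ := (T.mem_Qb.mp hm).choose_spec
    show (if h : _ then _ else _) = _
    rw [dif_pos hm, (T.pq_inj hq' hq).mp e]
  have hker : ∀ x : ↥T.M, Commute (x : G) z → (res (T.toCtx.m x) = 1 ↔ T.pr x ∈ T.Qb) := by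
    intro x hx
    have hxy := T.mem_M.mp x.2
    constructor
    · intro h
      obtain ⟨i, -, e⟩ := decomp (T.m_comm hx hxy)
      rw [h, map_one, one_mul] at e
      have hyi : Commute ((T.y ^ i)⁻¹) z := (T.yz.pow_left i).inv_left
      have hq : (x : G) * (T.y ^ i)⁻¹ ∈ T.Q0 := T.mem_Q0.mpr ⟨by
        rw [← T.toCtx.m_one_iff (hx.mul_left hyi), T.toCtx.m_mul hx hyi, T.toCtx.m_inv (T.yz.pow_left i),
          T.m_pow T.yz, T.my, e, mul_inv_cancel], hxy.mul_left ((Commute.refl T.y).pow_left i).inv_left⟩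
      refine T.mem_Qb.mpr ⟨_, hq, ?_⟩
      exact T.pr_eq.mpr ⟨i % 3, Nat.mod_lt _ (by norm_num), by
        have e2 := pow_mod_orderOf T.y i
        rw [T.y3] at e2
        rw [e2]; exact (inv_mul_cancel_right _ _).symm⟩
    · intro h
      obtain ⟨q, hq, e⟩ := T.mem_Qb.mp h
      obtain ⟨i, -, hi⟩ := T.pr_eq.mp e
      rw [show (x : G) = q * T.y ^ i from hi, T.toCtx.m_mul (T.X.central q (T.mem_Q0.mp hq).1) (T.yz.pow_left i),
        (T.toCtx.m_one_iff (T.X.central q (T.mem_Q0.mp hq).1)).mpr (T.mem_Q0.mp hq).1, one_mul, T.m_pow T.yz, T.my,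
        res_pow]
  have hcases : ∀ c : ↥(centralizer ({T.zb} : Set T.Hb)), ∃ x : ↥T.M, ∃ hx : Commute (x : G) z,
      c = ⟨T.pr x, mem_centralizer_singleton_iff.mpr (T.commute_zb.mpr hx).eq⟩ := fun c => by
    obtain ⟨x, hx⟩ := T.pr_surj c
    exact ⟨x, T.commute_zb.mp (by rw [hx]; exact mem_centralizer_singleton_iff.mp c.2), Subtype.ext hx.symm⟩
  have hconj : ∀ (x : ↥T.M) (hx : Commute (x : G) z) {q} (hq : q ∈ T.Q0),
      T.pr x * T.pq q hq * (T.pr x)⁻¹ = T.pq _ (T.norm_Q0 hx (T.mem_M.mp x.2) hq) := fun x hx q hq => by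
    rw [pq, ← map_inv, ← map_mul, ← map_mul]; rfl
  have hnorm : ∀ w, Commute w T.zb → ∀ v ∈ T.Qb, w * v * w⁻¹ ∈ T.Qb := fun w hw v hv => by
    obtain ⟨x, rfl⟩ := T.pr_surj w
    obtain ⟨q, hq, rfl⟩ := T.mem_Qb.mp hv
    exact T.mem_Qb.mpr ⟨_, _, (hconj x (T.commute_zb.mp hw) hq).symm⟩
  have zbQ : T.zb ∈ T.Qb := T.mem_Qb.mpr ⟨z, T.z_Q0, rfl⟩
  have zz : T.zb * T.zb = 1 := by rw [← sq, ← T.zb_order, pow_orderOf_eq_one]
  let c : Cfsg.Lib.SuzukiType.Ctx T.zb :=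
  { Q := T.Qb
    hz := T.zb_order
    X := ⟨zbQ, fun e => by have := T.zb_order; rw [e, orderOf_one] at this; norm_num at this, zz,
      IsPGroup.of_card (n := 7) (by rw [T.cardQb]; norm_num), fun w hw => by
        obtain ⟨q, hq, rfl⟩ := T.mem_Qb.mp hw
        exact T.commute_zb.mpr (T.X.central q (T.mem_Q0.mp hq).1), fun a ha b hb => by
        obtain ⟨p, hp, rfl⟩ := T.mem_Qb.mp ha
        obtain ⟨q, hq, rfl⟩ := T.mem_Qb.mp hb
        rw [pq, pq, ← map_commutatorElement]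
        rcases T.X.comm p (T.mem_Q0.mp hp).1 q (T.mem_Q0.mp hq).1 with e | e
        · left
          rw [show ⁅(⟨p, T.Q0_M hp⟩ : ↥T.M), (⟨q, T.Q0_M hq⟩ : ↥T.M)⁆ = (1 : ↥T.M) from Subtype.ext e, map_one]
        · right
          exact congrArg T.pr (Subtype.ext e), fun a ha => by
        obtain ⟨q, hq, rfl⟩ := T.mem_Qb.mp ha
        rw [← T.pq_mul]
        rcases T.X.sq q (T.mem_Q0.mp hq).1 with e | e
        · left; rw [(T.pq_inj _ (one_mem _)).mpr e, T.pq_one]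
        · right; exact (T.pq_inj _ T.z_Q0).mpr e, fun w hw hcomm => by
        obtain ⟨q, hq, rfl⟩ := T.mem_Qb.mp hw
        have hqQ := (T.mem_Q0.mp hq).1
        have hk := (ka_ok _ (T.π_lt q)).1
        have h0 : ka (T.π q) = 0 := Cfsg.Lib.SuzukiType.ThreeU43.nondeg6 hk fun k hk' => by
          obtain ⟨a, ha, e⟩ := T.exists_Q0 hk'
          have hc : T.pq (a * q) (mul_mem ha hq) = T.pq (q * a) (mul_mem hq ha) := by
            rw [T.pq_mul ha hq, T.pq_mul hq ha]; exact hcomm _ (T.mem_Qb.mpr ⟨a, ha, rfl⟩)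
          rw [← pB_io hk hk', T.io_π hq, ← e, ← T.π_comm q hqQ a (T.mem_Q0.mp ha).1]
          exact ((T.pq_inj (mul_mem ha hq) (mul_mem hq ha)).mp hc).symm
        rcases (T.π_zero q hqQ).mp (by rw [← T.io_π hq, h0, io_zero]) with e | e
        · left; rw [(T.pq_inj hq (one_mem _)).mpr e, T.pq_one]
        · right; exact (T.pq_inj hq T.z_Q0).mpr e⟩
    cQ := fun w hw => by
      rw [mem_centralizer_iff] at hw
      obtain ⟨x, rfl⟩ := T.pr_surj w
      have hx : Commute (x : G) z := T.commute_zb.mp (hw _ zbQ).symm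
      refine (hker x hx).mp (Cfsg.Lib.SuzukiType.cd_ext fun k hk => ?_)
      obtain ⟨q, hq, e⟩ := T.exists_Q0 hk
      have h1 := hconj x hx hq
      rw [← hw _ (T.mem_Qb.mpr ⟨q, hq, rfl⟩), mul_inv_cancel_right, T.pq_inj] at h1
      have h2 := T.act_Q0 hx (T.mem_M.mp x.2) hq
      rw [← h1, e, (io_ok k hk).2.1] at h2
      rw [Cfsg.Lib.SuzukiType.cd_one hk, ← h2]
    nQ := fun w hw => by
      rw [mem_centralizer_singleton_iff] at hw
      rw [mem_normalizer_iff]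
      refine fun v => ⟨hnorm w hw v, fun h => ?_⟩
      have := hnorm w⁻¹ (Commute.inv_left hw) _ h
      rwa [inv_inv, show w⁻¹ * (w * v * w⁻¹) * w = v by group] at this
    card := T.cardQb
    μ := μ
    ker := fun c => by
      obtain ⟨x, hx, rfl⟩ := hcases c
      rw [hμ x hx]
      exact hker x hx
    rng := by
      refine le_antisymm ?_ fun p hp => ?_
      · rintro _ ⟨c, rfl⟩
        obtain ⟨x, hx, rfl⟩ := hcases c
        rw [hμ x hx]
        exact res_mem (T.toCtx.m_mem hx) (T.m_comm hx (T.mem_M.mp x.2))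
      · obtain ⟨x, hxz, hxm, hxe⟩ := T.lift_to (ext_mem hp) T.y3 T.yz
          (by rw [T.my, (ext_comm p).eq, mul_inv_cancel_right])
        have hxM : x ∈ T.M := T.mem_M.mpr (mul_inv_eq_iff_eq_mul.mp hxe)
        have hx' : Commute ((⟨x, hxM⟩ : ↥T.M) : G) z := hxz
        refine ⟨⟨T.pr ⟨x, hxM⟩, mem_centralizer_singleton_iff.mpr (T.commute_zb.mpr hx').eq⟩, ?_⟩
        rw [hμ _ hx']
        show res (T.toCtx.m x) = p
        rw [hxm, res_ext]
    π := πf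
    π_lt := fun w => by
      show (if h : _ then _ else _) < 64
      split
      · exact (ka_ok _ (T.π_lt _)).1
      · norm_num
    π_mul := fun a ha b hb => by
      obtain ⟨p, hp, rfl⟩ := T.mem_Qb.mp ha
      obtain ⟨q, hq, rfl⟩ := T.mem_Qb.mp hb
      rw [← T.pq_mul, hπ, hπ, hπ, T.π_mul p (T.mem_Q0.mp hp).1 q (T.mem_Q0.mp hq).1, ka_xor]
    π_surj := fun k hk => by
      obtain ⟨q, hq, e⟩ := T.exists_Q0 hk
      exact ⟨_, T.mem_Qb.mpr ⟨q, hq, rfl⟩, by rw [hπ, e, (io_ok k hk).2.1]⟩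
    π_zero := fun w hw => by
      obtain ⟨q, hq, rfl⟩ := T.mem_Qb.mp hw
      rw [hπ, ← T.pq_one, zb, T.pq_inj, T.pq_inj, ← T.π_zero q (T.mem_Q0.mp hq).1]
      exact ⟨fun e => by rw [← T.io_π hq, e, io_zero], fun e => by rw [e]; decide⟩
    π_sq := fun w hw => by
      obtain ⟨q, hq, rfl⟩ := T.mem_Qb.mp hw
      rw [← T.pq_mul, ← T.pq_one, T.pq_inj, hπ, T.π_sq q (T.mem_Q0.mp hq).1,
        ← (io_ok _ (ka_ok _ (T.π_lt q)).1).2.2.2.2, T.io_π hq]
    π_comm := fun a ha b hb => by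
      obtain ⟨p, hp, rfl⟩ := T.mem_Qb.mp ha
      obtain ⟨q, hq, rfl⟩ := T.mem_Qb.mp hb
      show T.pq p hp * T.pq q hq = T.pq q hq * T.pq p hp ↔ _
      rw [← T.pq_mul, ← T.pq_mul, T.pq_inj, hπ, hπ, ← pB_io (ka_ok _ (T.π_lt p)).1 (ka_ok _ (T.π_lt q)).1,
        T.io_π hp, T.io_π hq]
      exact T.π_comm p (T.mem_Q0.mp hp).1 q (T.mem_Q0.mp hq).1
    π_act := fun c w hw => by
      obtain ⟨x, hx, rfl⟩ := hcases c
      obtain ⟨q, hq, rfl⟩ := T.mem_Qb.mp hw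
      rw [hμ x hx, hπ, hconj x hx hq, hπ, T.act_Q0 hx (T.mem_M.mp x.2) hq]
    nwc := by
      obtain ⟨h, hy, hs⟩ := T.exists_swap_y
      refine ⟨T.pr ⟨h, T.mem_M.mpr hy⟩, ?_⟩
      have e : T.pr ⟨h, T.mem_M.mpr hy⟩ * T.zb * (T.pr ⟨h, T.mem_M.mpr hy⟩)⁻¹ = T.pq T.s T.s_Q0 := by
        rw [zb, pq, ← map_inv, ← map_mul, ← map_mul]
        exact congrArg T.pr (Subtype.ext hs)
      rw [e]
      exact ⟨T.mem_Qb.mpr ⟨_, T.s_Q0, rfl⟩, fun e' => T.toPt.s_ne.2 ((T.pq_inj T.s_Q0 T.z_Q0).mp e')⟩ }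
  refine ⟨c, rfl, fun x hx => ?_⟩
  rw [Cfsg.Lib.SuzukiType.Ctx.m, dif_pos (mem_centralizer_singleton_iff.mpr (T.commute_zb.mpr hx).eq)]
  exact hμ x hx

end Three

end Cfsg.Lib.ConwayType.ThreeSuz
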